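import Cfsg.Agent.Lib.Recog.FiThree.Transpositions

set_option autoImplicit false
set_option maxRecDepth 20000
set_option linter.style.haveILetI false

/-!
The point stabiliser: a non-split double cover of the presented Fi22 (owner: helper21).
-/

namespace CfsgLib.Recog.FiThree

open Cfsg CfsgLib.Recog.BitPerm CfsgLib.Recog.SporBound CfsgLib.ThreeTrans.CosetIndex

attribute [local instance] finite_fi23'

/-- The elements of the stabiliser fixing the point of the first letter. -/
noncomputable def kSub : Subgroup hSub := (stabPt pA).subgroupOf hSub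

theorem mem_kSub {g : hSub} : g ∈ kSub ↔ act (g : Spor.Fi23) pA = pA :=
  Subgroup.mem_subgroupOf.trans mem_stabPt

theorem k_word {w : List ℕ} (hw : w ∈ kWords) : word w ∈ hSub ∧ act (word w) pA = pA := by
  have h := List.all_eq_true.1 k_maps w hw
  simp only [Bool.and_eq_true] at h
  exact ⟨word_mem_h h.2, act_maps h.1.2⟩

theorem sub_orbit {b : ℕ} {r c : ℕ} (hc : (orbitSet net kWords b r).testBit c = true) :
    ∃ k : hSub, k ∈ kSub ∧ act (k : Spor.Fi23) b = c := by
  have hK : ∀ w ∈ kWords, wordPerm net w ∈ (kSub.map (act.comp hSub.subtype)) := fun w hw =>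
    ⟨⟨word w, (k_word hw).1⟩, mem_kSub.2 (k_word hw).2, act_word w⟩
  obtain ⟨-, ⟨k, hk, rfl⟩, e⟩ := orbitSet_sub acts.valid hK _ c hc
  exact ⟨k, hk, e⟩

theorem orb1_closed' {g : Spor.Fi23} (hg : g ∈ hSub) {c : ℕ} (hc : orb1.testBit c = true) :
    orb1.testBit (act g c) = true := by
  rw [action_closed acts (L := hLetters) orb1_closed hg]
  exact hc

theorem pA_mem : orb1.testBit pA = true := by
  have h := congrArg (fun n => n.testBit pA) (Nat.eq_of_beq_eq_true sub_cover)
  change (sub1 ||| sub2 ||| (1 <<< pA : ℕ)).testBit pA = orb1.testBit pA at h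
  rw [← h, Nat.testBit_or, Nat.one_shiftLeft, Nat.testBit_two_pow_self, Bool.or_true]

theorem cover_sub {c : ℕ} (hc : orb1.testBit c = true) :
    c = pA ∨ sub1.testBit c = true ∨ sub2.testBit c = true := by
  have h := congrArg (fun n => n.testBit c) (Nat.eq_of_beq_eq_true sub_cover)
  change (sub1 ||| sub2 ||| (1 <<< pA : ℕ)).testBit c = orb1.testBit c at h
  rw [hc, Nat.testBit_or, Nat.testBit_or, Nat.one_shiftLeft, Nat.testBit_two_pow, Bool.or_eq_true, Bool.or_eq_true,
    decide_eq_true_eq] at h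
  rcases h with (h | h) | h
  · exact Or.inr (Or.inl h)
  · exact Or.inr (Or.inr h)
  · exact Or.inl h.symm

/-- An element moving the point of the first letter into the smaller suborbit. -/
noncomputable def xA : hSub := ⟨word hA, word_mem_h ((Bool.and_eq_true_iff.1 hA_maps).2)⟩

/-- An element moving the point of the first letter into the larger suborbit. -/
noncomputable def xB : hSub := ⟨word hB, word_mem_h ((Bool.and_eq_true_iff.1 hB_maps).2)⟩

theorem xA_pA : act (xA : Spor.Fi23) pA = pSmall := act_maps (Bool.and_eq_true_iff.1 hA_maps).1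

theorem xB_pA : act (xB : Spor.Fi23) pA = pLarge := act_maps (Bool.and_eq_true_iff.1 hB_maps).1

theorem sub_double {x : hSub} {b : ℕ} (hx : act (x : Spor.Fi23) pA = b) {r : ℕ} {g : hSub}
    (hc : (orbitSet net kWords b r).testBit (act (g : Spor.Fi23) pA) = true) : InDouble kSub x g := by
  obtain ⟨k, hk, e⟩ := sub_orbit hc
  refine ⟨k, hk, mem_kSub.2 ?_⟩
  rw [Subgroup.coe_mul, Subgroup.coe_inv, Subgroup.coe_mul, map_mul, map_inv, Equiv.Perm.mul_apply,
    Equiv.Perm.inv_eq_iff_eq, map_mul, Equiv.Perm.mul_apply, hx, e]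

theorem decomp_k (g : hSub) : g ∈ kSub ∨ InDouble kSub xA g ∨ InDouble kSub xB g := by
  rcases cover_sub (orb1_closed' g.2 pA_mem) with h | h | h
  · exact Or.inl (mem_kSub.2 h)
  · exact Or.inr (Or.inl (sub_double xA_pA h))
  · exact Or.inr (Or.inr (sub_double xB_pA h))

theorem kSub_maximal {C : Subgroup hSub} (hC : kSub ≤ C) : C = kSub ∨ C = ⊤ := by
  refine rank_three_maximal decomp_k ?_ ?_ hC
  · have h := v1_maps
    simp only [Bool.and_eq_true] at h
    obtain ⟨⟨hm, h1⟩, h2⟩ := h
    obtain ⟨k, hk, e⟩ := sub_orbit h1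
    refine ⟨k, hk, sub_double xB_pA (r := 5) ?_⟩
    rw [Subgroup.coe_mul, Subgroup.coe_mul, map_mul, map_mul, Equiv.Perm.mul_apply, Equiv.Perm.mul_apply, xA_pA, e]
    show sub2.testBit _ = true
    rw [show (xA : Spor.Fi23) = word hA from rfl, act_maps hm]
    exact h2
  · have h := v2_maps
    simp only [Bool.and_eq_true] at h
    obtain ⟨⟨hm, h1⟩, h2⟩ := h
    obtain ⟨k, hk, e⟩ := sub_orbit h1
    refine ⟨k, hk, sub_double xA_pA (r := 6) ?_⟩
    rw [Subgroup.coe_mul, Subgroup.coe_mul, map_mul, map_mul, Equiv.Perm.mul_apply, Equiv.Perm.mul_apply, xB_pA, e]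
    show sub1.testBit _ = true
    rw [show (xB : Spor.Fi23) = word hB from rfl, act_maps hm]
    exact h2

/-- The central involution. -/
noncomputable def zH : hSub := ⟨zz, zz_mem_h⟩

theorem zH_central : zH ∈ Subgroup.center hSub :=
  Subgroup.mem_center_iff.2 fun g => Subtype.ext (zz_comm g.2)

theorem pJ_mem : orb2.testBit pJ = true := by
  have h0 : (1 : Spor.Fi23) ∈ hSub := one_mem _
  rcases cover (show pJ < 31671 by decide) with h | h | h
  · exact absurd h (by decide)
  · exfalso
    obtain ⟨k, hk, e⟩ := orb1_sub h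
    have hd : InDouble hSub (word ga) (word gj) := inDouble_one (by rw [pt_gj]; exact h)
    obtain ⟨k', hk', h'⟩ := hd
    have hja : gg 9 ∈ hSub := by
      have e1 : word gj * zz * (word gj)⁻¹ = k' * (word ga * zz * (word ga)⁻¹) * k'⁻¹ := by
        have h1 : ((k' * word ga)⁻¹ * word gj) * zz * ((k' * word ga)⁻¹ * word gj)⁻¹ = zz := by
          rw [zz_comm h', mul_inv_cancel_right]
        calc word gj * zz * (word gj)⁻¹ = (k' * word ga) * (((k' * word ga)⁻¹ * word gj) * zz *
            ((k' * word ga)⁻¹ * word gj)⁻¹) * (k' * word ga)⁻¹ := by group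
          _ = _ := by rw [h1]; group
      rw [gj_zz, ga_zz] at e1
      rw [e1]
      exact mul_mem (mul_mem hk' (gg_mem_h (by decide))) (inv_mem hk')
    obtain ⟨g, hg⟩ := nontrivial_fi23
    refine hg ((show hSub = ⊤ from eq_top_of_gg fun x hx => ?_) ▸ Subgroup.mem_top g)
    by_cases hx9 : x ∈ hLetters
    · exact gg_mem_h hx9
    · have : x = 9 := by
        simp only [hLetters, List.mem_cons, List.not_mem_nil, or_false] at hx9
        omega
      rw [this]; exact hja
  · exact h

theorem fixed_in_orb2 {c : ℕ} (hc : orb2.testBit c = true) (hfix : ∀ w ∈ lWords, wordPerm net w c = c) :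
    c = pJ ∨ c = pZ := by
  have hnm : (movedAny lWords).testBit c = false := by
    have key : ∀ L : List (List ℕ), (∀ w ∈ L, wordPerm net w c = c) → (movedAny L).testBit c = false := by
      intro L
      induction L with
      | nil => intro _; exact Nat.zero_testBit c
      | cons w L ih =>
        intro hL
        show (movedAny L ||| moved w).testBit c = false
        rw [Nat.testBit_or, ih (fun v hv => hL v (List.mem_cons_of_mem _ hv)), Bool.false_or]
        have key2 : ∀ k, (Nat.rec 0 (fun r D => Nat.lor D (Nat.xor (runWord net w (plane r 15)) (plane r 15))) k : ℕ).testBit c = false := by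
          intro k
          induction k with
          | zero => exact Nat.zero_testBit c
          | succ k ihk =>
            show ((Nat.rec 0 _ k : ℕ) ||| (runWord net w (plane k 15) ^^^ plane k 15)).testBit c = false
            rw [Nat.testBit_or, ihk, Bool.false_or, Nat.testBit_xor, testBit_runWord acts.valid,
              hL w List.mem_cons_self, Bool.xor_self]
        exact key2 15
    exact key lWords hfix
  have h := congrArg (fun n => n.testBit c) (Nat.eq_of_beq_eq_true l_fixed)
  change (orb2 ||| movedAny lWords).testBit c = (movedAny lWords ||| ((1 <<< pJ : ℕ) ||| (1 <<< pZ : ℕ))).testBit c at h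
  rw [Nat.testBit_or, Nat.testBit_or, hc, hnm, Nat.testBit_or, Nat.one_shiftLeft, Nat.one_shiftLeft,
    Nat.testBit_two_pow, Nat.testBit_two_pow, Bool.true_or, Bool.false_or, eq_comm, Bool.or_eq_true,
    decide_eq_true_eq, decide_eq_true_eq] at h
  rcases h with h | h
  · exact Or.inl h.symm
  · exact Or.inr h.symm

theorem central_trivial {m : Spor.Fi23} (hcomm : ∀ x ∈ hLetters, gg x * m = m * gg x)
    (hfix : act m pJ = pJ) : m = 1 := by
  refine center_eq_one fun x hx => ?_
  by_cases hx9 : x ∈ hLetters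
  · exact hcomm x hx9
  have : x = 9 := by
    simp only [hLetters, List.mem_cons, List.not_mem_nil, or_false] at hx9
    omega
  subst this
  have h2 : (word gj)⁻¹ * m * word gj ∈ hSub := by
    rw [mem_h_iff, pt, map_mul, map_mul, map_inv, Equiv.Perm.mul_apply, Equiv.Perm.mul_apply,
      show act (word gj) 0 = pJ from pt_gj, hfix, Equiv.Perm.inv_eq_iff_eq]
    exact pt_gj.symm
  have e := zz_comm h2
  rw [← gj_zz]
  calc word gj * zz * (word gj)⁻¹ * m = word gj * (zz * ((word gj)⁻¹ * m * word gj)) * (word gj)⁻¹ := by group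
    _ = word gj * ((word gj)⁻¹ * m * word gj * zz) * (word gj)⁻¹ := by rw [e]
    _ = _ := by group

theorem center_h (n : hSub) (hn : n ∈ Subgroup.center hSub) : n = 1 ∨ n = zH := by
  have hc : ∀ g : hSub, (g : Spor.Fi23) * n = n * g := fun g =>
    congrArg Subtype.val (Subgroup.mem_center_iff.1 hn g)
  have hx : ∀ x ∈ hLetters, gg x * (n : Spor.Fi23) = n * gg x := fun x hx => hc ⟨gg x, gg_mem_h hx⟩
  have hfix : ∀ w ∈ lWords, wordPerm net w (act (n : Spor.Fi23) pJ) = act (n : Spor.Fi23) pJ := by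
    intro w hw
    have h := List.all_eq_true.1 l_maps w hw
    simp only [Bool.and_eq_true] at h
    rw [← act_word, ← Equiv.Perm.mul_apply, ← map_mul, hc ⟨word w, word_mem_h h.2⟩, map_mul, Equiv.Perm.mul_apply,
      act_maps h.1]
  have hmem : orb2.testBit (act (n : Spor.Fi23) pJ) = true := by
    rw [action_closed acts (L := hLetters) orb2_closed n.2]
    exact pJ_mem
  rcases fixed_in_orb2 hmem hfix with h | h
  · exact Or.inl (Subtype.ext (central_trivial hx h))
  · refine Or.inr (Subtype.ext ?_)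
    have h1 : zz⁻¹ * (n : Spor.Fi23) = 1 := by
      refine central_trivial (fun x hxm => ?_) ?_
      · have e := zz_comm (gg_mem_h hxm)
        have e' : gg x * zz⁻¹ = zz⁻¹ * gg x := by
          rw [inv_eq_of_mul_eq_one_right zz_sq]; exact e
        rw [← mul_assoc, e', mul_assoc, hx x hxm, mul_assoc]
      · rw [map_mul, Equiv.Perm.mul_apply, h, map_inv, Equiv.Perm.inv_eq_iff_eq]
        exact (act_maps z_maps).symm
    exact (inv_mul_eq_one.1 h1).symm

theorem zH_ne_one : zH ≠ 1 := fun h => by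
  have : zz = 1 := congrArg Subtype.val h
  have := orderOf_zz
  rw [‹zz = 1›, orderOf_one] at this
  omega

theorem card_center_h : Nat.card (Subgroup.center hSub) = 2 := by
  classical
  rw [Nat.card_eq_two_iff' (1 : Subgroup.center hSub)]
  refine ⟨⟨zH, zH_central⟩, fun h => zH_ne_one (congrArg Subtype.val h), fun n hne => ?_⟩
  rcases center_h n.1 n.2 with h | h
  · exact absurd (Subtype.ext h) hne
  · exact Subtype.ext h

theorem card_hSub : Nat.card hSub = 129123503308800 := by
  have h := Subgroup.card_mul_index hSub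
  exact Nat.eq_of_mul_eq_mul_right (show 0 < 31671 by decide +kernel) (by
    rw [show (129123503308800 * 31671 : ℕ) = 4089470473293004800 by decide +kernel, ← card_fi23, ← h, hSub_index])

theorem card_quot : Nat.card (hSub ⧸ Subgroup.center hSub) = 64561751654400 := by
  have h := Subgroup.card_mul_index (Subgroup.center hSub)
  rw [card_center_h, card_hSub] at h
  rw [← Subgroup.index_eq_card]
  omega

theorem hSub_top {C : Subgroup hSub} (h : ∀ x (hx : x ∈ hLetters), (⟨gg x, gg_mem_h hx⟩ : hSub) ∈ C) : C = ⊤ := by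
  refine eq_top_iff.2 fun g _ => ?_
  have key : hSub ≤ C.map hSub.subtype := by
    conv_lhs => rw [hSub, letterSub]
    rw [Subgroup.closure_le]
    rintro _ ⟨x, hx, rfl⟩
    exact ⟨⟨gg x, gg_mem_h hx⟩, h x hx, rfl⟩
  obtain ⟨g', hg', e⟩ := key g.2
  rwa [← Subtype.ext e]

theorem conj_a (x : ℕ) (hx : x ∈ hLetters) :
    ∃ c : hSub, (⟨gg x, gg_mem_h hx⟩ : hSub) = c * ⟨gg 0, gg_mem_h (by decide)⟩ * c⁻¹ := by
  obtain ⟨c, hc, e⟩ := gg_conj_in hSub (fun y hy => gg_mem_h hy) hx
  exact ⟨⟨c, hc⟩, Subtype.ext e⟩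

/-- A homomorphism under which all nine letters look alike is trivial. -/
theorem trivial_hom {M : Type*} [Group M] (f : hSub →* M)
    (hf : ∀ x (hx : x ∈ hLetters), f ⟨gg x, gg_mem_h hx⟩ = f ⟨gg 0, gg_mem_h (by decide)⟩) : ∀ g, f g = 1 := by
  have h1 := hom_trivial (fun x hx => gg_mem_h hx) f hf
  intro g
  exact MonoidHom.mem_ker.1 ((hSub_top (C := f.ker) fun x hx => MonoidHom.mem_ker.2 ((hf x hx).trans h1)) ▸
    Subgroup.mem_top g)

theorem kSub_comm_a {n : hSub} (hn : n ∈ kSub) : (n : Spor.Fi23) * gg 0 = gg 0 * n := by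
  have h2 : (word ga)⁻¹ * (n : Spor.Fi23) * word ga ∈ hSub := by
    rw [mem_h_iff, pt, map_mul, map_mul, map_inv, Equiv.Perm.mul_apply, Equiv.Perm.mul_apply,
      show act (word ga) 0 = pA from pt_ga, mem_kSub.1 hn, Equiv.Perm.inv_eq_iff_eq]
    exact pt_ga.symm
  have e := zz_comm h2
  rw [← ga_zz]
  calc (n : Spor.Fi23) * (word ga * zz * (word ga)⁻¹)
      = word ga * ((word ga)⁻¹ * n * word ga * zz) * (word ga)⁻¹ := by group
    _ = word ga * (zz * ((word ga)⁻¹ * n * word ga)) * (word ga)⁻¹ := by rw [e]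
    _ = _ := by group

theorem isSimple_quot : IsSimpleGroup (hSub ⧸ Subgroup.center hSub) := by
  haveI : Nontrivial (hSub ⧸ Subgroup.center hSub) := Finite.one_lt_card_iff_nontrivial.1 (by rw [card_quot]; omega)
  refine ⟨fun Q hQ => ?_⟩
  set N := Q.comap (QuotientGroup.mk' (Subgroup.center hSub)) with hN
  haveI hNn : N.Normal := hQ.comap _
  rcases kSub_maximal (show kSub ≤ kSub ⊔ N from le_sup_left) with h | h
  · left
    have hle : N ≤ Subgroup.center hSub := by
      intro n hn
      refine Subgroup.mem_center_iff.2 fun g => ?_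
      have hgen : ∀ x (hx : x ∈ hLetters), (⟨gg x, gg_mem_h hx⟩ : hSub) * n = n * ⟨gg x, gg_mem_h hx⟩ := by
        intro x hx
        obtain ⟨c, e⟩ := conj_a x hx
        have hm : c⁻¹ * n * c⁻¹⁻¹ ∈ kSub := h ▸ Subgroup.mem_sup_right (hNn.conj_mem n hn c⁻¹)
        have e0 : (c⁻¹ * n * c⁻¹⁻¹) * (⟨gg 0, gg_mem_h (by decide)⟩ : hSub) =
            ⟨gg 0, gg_mem_h (by decide)⟩ * (c⁻¹ * n * c⁻¹⁻¹) := Subtype.ext (kSub_comm_a hm)
        rw [e]
        calc c * ⟨gg 0, gg_mem_h (by decide)⟩ * c⁻¹ * n
            = c * (⟨gg 0, gg_mem_h (by decide)⟩ * (c⁻¹ * n * c⁻¹⁻¹)) * c⁻¹ := by group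
          _ = c * ((c⁻¹ * n * c⁻¹⁻¹) * ⟨gg 0, gg_mem_h (by decide)⟩) * c⁻¹ := by rw [e0]
          _ = _ := by group
      have htop := hSub_top (C := Subgroup.centralizer {n}) fun x hx =>
        Subgroup.mem_centralizer_iff.2 fun y hy => by rw [Set.mem_singleton_iff.1 hy]; exact (hgen x hx).symm
      exact (Subgroup.mem_centralizer_iff.1 (htop ▸ Subgroup.mem_top g : g ∈ Subgroup.centralizer {n}) n rfl).symm
    rw [Subgroup.eq_bot_iff_forall]
    intro q hq
    obtain ⟨n, rfl⟩ := QuotientGroup.mk'_surjective _ q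
    exact (QuotientGroup.eq_one_iff n).2 (hle hq)
  · right
    have hf : ∀ x (hx : x ∈ hLetters), (QuotientGroup.mk' N) ⟨gg x, gg_mem_h hx⟩ =
        (QuotientGroup.mk' N) ⟨gg 0, gg_mem_h (by decide)⟩ := by
      intro x hx
      obtain ⟨c, e⟩ := conj_a x hx
      have hc : c ∈ N ⊔ kSub := by rw [sup_comm, h]; exact Subgroup.mem_top c
      obtain ⟨m, hm, k, hk, rfl⟩ := Subgroup.mem_sup_of_normal_left.1 hc
      have e0 : k * (⟨gg 0, gg_mem_h (by decide)⟩ : hSub) = ⟨gg 0, gg_mem_h (by decide)⟩ * k :=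
        Subtype.ext (kSub_comm_a hk)
      rw [e, show m * k * ⟨gg 0, gg_mem_h (by decide)⟩ * (m * k)⁻¹ =
          m * (k * ⟨gg 0, gg_mem_h (by decide)⟩ * k⁻¹) * m⁻¹ by group, e0, mul_inv_cancel_right, map_mul, map_mul,
        map_inv, show (QuotientGroup.mk' N) m = 1 from (QuotientGroup.eq_one_iff m).2 hm, one_mul, inv_one, mul_one]
    rw [eq_top_iff]
    intro q _
    obtain ⟨g, rfl⟩ := QuotientGroup.mk'_surjective _ q
    exact (QuotientGroup.eq_one_iff (N := N) g).1 (trivial_hom _ hf g)

theorem isFi22_quot : IsFi22 (hSub ⧸ Subgroup.center hSub) := ⟨isSimple_quot, card_quot⟩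

/-- The letters of Fi22 in the quotient. -/
noncomputable def toQuot (x : ℕ) : hSub ⧸ Subgroup.center hSub :=
  if h : x ∈ hLetters then QuotientGroup.mk' _ ⟨gg x, gg_mem_h h⟩ else 1

theorem toQuot_word {w : List ℕ} (hw : ∀ x ∈ w, x ∈ hLetters) :
    (w.map toQuot).prod = QuotientGroup.mk' _ ⟨word w, mem_letterSub hw⟩ := by
  induction w with
  | nil =>
    rw [List.map_nil, List.prod_nil]
    exact ((congrArg _ (Subtype.ext List.prod_nil : (⟨word [], mem_letterSub hw⟩ : hSub) = 1)).trans
      (map_one (QuotientGroup.mk' (Subgroup.center hSub)))).symm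
  | cons x w ih =>
    rw [List.map_cons, List.prod_cons, ih fun y hy => hw y (List.mem_cons_of_mem _ hy), toQuot,
      dif_pos (hw x List.mem_cons_self), ← map_mul]
    exact congrArg _ (Subtype.ext (by simp [word]))

theorem toQuot_sq (x : ℕ) : toQuot x * toQuot x = 1 := by
  unfold toQuot
  split_ifs with h
  · rw [← map_mul, show (⟨gg x, gg_mem_h h⟩ * ⟨gg x, gg_mem_h h⟩ : hSub) = 1 from Subtype.ext (gg_sq x), map_one]
  · exact one_mul _

theorem rels22 {w : List ℕ} (hw : w ∈ relWords Spor.Fi22.edges Spor.Fi22.extra gens22) :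
    (w.map toQuot).prod = 1 := by
  have hchk : (relWords Spor.Fi22.edges Spor.Fi22.extra gens22).all (fun w => w.all (hLetters.contains ·) &&
      ((relWords Spor.Fi23.edges Spor.Fi23.extra gens).contains w || w == zW)) = true := by decide +kernel
  have h := List.all_eq_true.1 hchk w hw
  simp only [Bool.and_eq_true, Bool.or_eq_true, List.all_eq_true, List.contains_iff_mem, beq_iff_eq] at h
  rw [toQuot_word h.1]
  refine (QuotientGroup.eq_one_iff _).2 ?_
  rcases h.2 with h2 | h2
  · rw [show (⟨word w, mem_letterSub h.1⟩ : hSub) = 1 from Subtype.ext (relWord_one nodes h2)]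
    exact one_mem _
  · subst h2
    exact zH_central

/-- The presented Fi22 onto the quotient. -/
noncomputable def fromFi22 : Spor.Fi22 →* hSub ⧸ Subgroup.center hSub :=
  PresentedGroup.toGroup (f := fun y => toQuot (gens22.idxOf y)) (by
    intro r hr
    rw [hom_eq_prod gens22 _ toQuot (fun y => FreeGroup.lift_apply_of) toQuot_sq]
    refine rels22 ?_
    rw [relWords, List.mem_append]
    rcases hr with ⟨x, hx, y, hy, rfl⟩ | hr
    · exact Or.inl (List.mem_flatMap.2 ⟨x, hx, List.mem_map.2 ⟨y, hy, rfl⟩⟩)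
    · exact Or.inr (List.mem_map.2 ⟨r, hr, rfl⟩))

theorem fromFi22_surjective : Function.Surjective fromFi22 := by
  intro q
  obtain ⟨g, rfl⟩ := QuotientGroup.mk'_surjective _ q
  have h : (fromFi22.range.comap (QuotientGroup.mk' (Subgroup.center hSub))) = ⊤ := by
    refine hSub_top fun x hx => ?_
    have h9 : x < gens22.length := (show ∀ y ∈ hLetters, y < gens22.length by decide) x hx
    refine ⟨PresentedGroup.of gens22[x], ?_⟩
    rw [fromFi22, PresentedGroup.toGroup.of, (show gens22.Nodup by decide).idxOf_getElem _ h9, toQuot, dif_pos hx]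
  exact (h ▸ Subgroup.mem_top g : g ∈ fromFi22.range.comap _)

theorem fi22_equiv : Nonempty (hSub ⧸ Subgroup.center hSub ≃* Spor.Fi22) := by
  haveI := finite_fi22
  have hb : Function.Bijective fromFi22 :=
    (Nat.bijective_iff_surjective_and_card _).2 ⟨fromFi22_surjective,
      le_antisymm (card_quot ▸ card_fi22_le) (Nat.card_le_card_of_surjective _ fromFi22_surjective)⟩
  exact ⟨(MulEquiv.ofBijective fromFi22 hb).symm⟩

theorem isFi22_fi22 : IsFi22 Spor.Fi22 := by
  obtain ⟨e⟩ := fi22_equiv
  haveI := isSimple_quot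
  haveI : Nontrivial Spor.Fi22 := e.symm.toEquiv.nontrivial
  exact ⟨IsSimpleGroup.isSimpleGroup_of_surjective e.toMonoidHom e.surjective,
    (Nat.card_congr e.toEquiv).symm.trans card_quot⟩

theorem no_complement (L : Subgroup hSub) : ¬ (Subgroup.center hSub).IsComplement' L := by
  intro hc
  have hidx : L.index = 2 := by rw [Subgroup.IsComplement'.index_eq_card hc, card_center_h]
  haveI := Subgroup.normal_of_index_eq_two hidx
  haveI : IsCyclic (hSub ⧸ L) := isCyclic_of_prime_card (p := 2) (by rw [← Subgroup.index_eq_card]; exact hidx)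
  have hcomm : ∀ a b : hSub ⧸ L, a * b = b * a := IsCyclic.commGroup.mul_comm
  have hall : ∀ g, (QuotientGroup.mk' L) g = 1 := trivial_hom _ fun x hx => by
    obtain ⟨c, e⟩ := conj_a x hx
    rw [e, map_mul, map_mul, map_inv, hcomm (QuotientGroup.mk' L c), mul_inv_cancel_right]
  have : L = ⊤ := eq_top_iff.2 fun g _ => (QuotientGroup.eq_one_iff g).1 (hall g)
  rw [this, Subgroup.index_top] at hidx
  omega

theorem doubleCover : IsNonsplitDoubleCover hSub Spor.Fi22 := ⟨card_center_h, fi22_equiv, no_complement⟩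

end CfsgLib.Recog.FiThree
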