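import Cfsg.Agent.Lib.Recog.FiThree.Data

set_option autoImplicit false
set_option maxRecDepth 20000
set_option Elab.async false

/-! Checks (owner: helper21). -/

namespace CfsgLib.Recog.FiThree
open CfsgLib.Recog.BitPerm
open CfsgLib.ThreeTrans.CosetIndex
open Cfsg

theorem z_comm0 : idOK 15 net (zW ++ [0] ++ zW ++ [0]) = true := by decide +kernel

theorem z_comm1 : idOK 15 net (zW ++ [1] ++ zW ++ [1]) = true := by decide +kernel

theorem z_comm2 : idOK 15 net (zW ++ [2] ++ zW ++ [2]) = true := by decide +kernel

theorem z_comm3 : idOK 15 net (zW ++ [3] ++ zW ++ [3]) = true := by decide +kernel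

theorem z_comm4 : idOK 15 net (zW ++ [4] ++ zW ++ [4]) = true := by decide +kernel

theorem z_comm5 : idOK 15 net (zW ++ [5] ++ zW ++ [5]) = true := by decide +kernel

theorem z_comm6 : idOK 15 net (zW ++ [6] ++ zW ++ [6]) = true := by decide +kernel

theorem z_comm7 : idOK 15 net (zW ++ [7] ++ zW ++ [7]) = true := by decide +kernel

theorem z_comm8 : idOK 15 net (zW ++ [8] ++ zW ++ [8]) = true := by decide +kernel

theorem z_comm : (hLetters.all fun x => idOK 15 net (zW ++ [x] ++ zW ++ [x])) = true := by
  simp only [hLetters, List.all_cons, List.all_nil, Bool.and_true, z_comm0, z_comm1, z_comm2, z_comm3, z_comm4,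
    z_comm5, z_comm6, z_comm7, z_comm8]

end CfsgLib.Recog.FiThree
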