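import Cfsg.Agent.Lib.Recog.FiThree.Data

set_option autoImplicit false
set_option maxRecDepth 20000

/-! Checks (owner: helper21). -/

namespace CfsgLib.Recog.FiThree
open CfsgLib.Recog.BitPerm
open CfsgLib.ThreeTrans.CosetIndex
open Cfsg

theorem ga_conj : idOK 15 net (ga ++ zW ++ ga.reverse ++ [0]) = true := by decide +kernel

theorem gj_conj : idOK 15 net (gj ++ zW ++ gj.reverse ++ [9]) = true := by decide +kernel

theorem zj_cube : idOK 15 net (zW ++ [9] ++ zW ++ [9] ++ zW ++ [9]) = true := by decide +kernel

end CfsgLib.Recog.FiThree
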