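import Cfsg.Agent.Lib.Recog.FiThree.Action
import Cfsg.Agent.Lib.Recog.FiThree.CheckCentral
import Cfsg.Agent.Lib.Recog.FiThree.CheckConj
import Cfsg.Prelude.Def_Sporadic
import Cfsg.Prelude.Def_SporadicB

set_option autoImplicit false
set_option maxRecDepth 20000
set_option linter.style.haveILetI false

/-!
Fi23 on its 31671 transpositions: index, orbits, simplicity (owner: helper21).
-/

namespace CfsgLib.Recog.FiThree

open Cfsg CfsgLib.Recog.BitPerm CfsgLib.Recog.SporBound CfsgLib.ThreeTrans.CosetIndex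

attribute [local instance] finite_fi23'

theorem hWord_mem {w : List ℕ} (hw : w ∈ hWords) : wordPerm net w ∈ hSub.map act := by
  obtain ⟨x, hx, rfl⟩ := List.mem_map.1 hw
  exact ⟨word [x], mem_letterSub fun y hy => by rw [List.mem_singleton.1 hy]; exact hx, act_word _⟩

theorem pt_ga : pt (word ga) = pA := act_maps ga_maps

theorem pt_gj : pt (word gj) = pJ := act_maps gj_maps

theorem orb1_sub {c : ℕ} (hc : orb1.testBit c = true) : ∃ h ∈ hSub, act h pA = c := by
  obtain ⟨-, ⟨h, hh, rfl⟩, e⟩ := orbitSet_sub acts.valid (fun w hw => hWord_mem hw) _ c hc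
  exact ⟨h, hh, e⟩

theorem orb2_sub {c : ℕ} (hc : orb2.testBit c = true) : ∃ h ∈ hSub, act h pJ = c := by
  obtain ⟨-, ⟨h, hh, rfl⟩, e⟩ := orbitSet_sub acts.valid (fun w hw => hWord_mem hw) _ c hc
  exact ⟨h, hh, e⟩

theorem cover {c : ℕ} (hc : c < 31671) : c = 0 ∨ orb1.testBit c = true ∨ orb2.testBit c = true := by
  have key : ∀ n : ℕ, Nat.beq (Nat.lor (Nat.lor orb1 orb2) 1) (2 ^ n - 1) = true → c < n →
      (orb1 ||| orb2 ||| 1).testBit c = true := fun n h hn => by
    rw [← decide_eq_true hn, ← Nat.testBit_two_pow_sub_one n c, ← Nat.eq_of_beq_eq_true h]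
    rfl
  have h := key numPoints orb_cover (numPoints_eq.symm ▸ hc)
  rw [Nat.testBit_or, Nat.testBit_or, Bool.or_eq_true,
    Bool.or_eq_true] at h
  rcases h with (h | h) | h
  · exact Or.inr (Or.inl h)
  · exact Or.inr (Or.inr h)
  · exact Or.inl (Nat.eq_zero_of_not_pos fun hpos => by
      rw [Nat.testBit_eq_false_of_lt (Nat.one_lt_two_pow (by omega))] at h
      exact Bool.noConfusion h)

theorem pt_lt (g : Spor.Fi23) : pt g < 31671 := by
  by_contra h
  have h' := high_fix g (Nat.not_lt.1 h)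
  have := (act g).injective h'
  omega

theorem exists_pt {c : ℕ} (hc : c < 31671) : ∃ g, pt g = c := by
  rcases cover hc with rfl | h | h
  · exact ⟨1, by rw [pt, map_one]; rfl⟩
  · obtain ⟨k, -, e⟩ := orb1_sub h
    exact ⟨k * word ga, by rw [pt, map_mul, Equiv.Perm.mul_apply, show act (word ga) 0 = pA from pt_ga, e]⟩
  · obtain ⟨k, -, e⟩ := orb2_sub h
    exact ⟨k * word gj, by rw [pt, map_mul, Equiv.Perm.mul_apply, show act (word gj) 0 = pJ from pt_gj, e]⟩

theorem mk_eq_of_pt_all :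
    Nat.card (Spor.Fi23 ⧸ hSub) = 31671 ∧ ∀ g : Spor.Fi23, pt g = 0 → g ∈ hSub := by
  choose s hs using fun c : Fin 31671 => exists_pt c.2
  let F : Fin 31671 → Spor.Fi23 ⧸ hSub := fun c => QuotientGroup.mk (s c)
  have key : ∀ g g' : Spor.Fi23, (QuotientGroup.mk g : Spor.Fi23 ⧸ hSub) = QuotientGroup.mk g' → pt g = pt g' := by
    intro g g' e
    rw [QuotientGroup.eq] at e
    rw [← pt_mul_h g e, mul_inv_cancel_left]
  have hF : Function.Injective F := fun c c' e => Fin.ext (by rw [← hs c, ← hs c']; exact key _ _ e)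
  have hcard : Nat.card (Spor.Fi23 ⧸ hSub) = 31671 :=
    le_antisymm index_h_le (by simpa using Nat.card_le_card_of_injective F hF)
  refine ⟨hcard, fun g hg => ?_⟩
  obtain ⟨c, hc⟩ := (Nat.bijective_iff_injective_and_card F).2 ⟨hF, by simp [hcard]⟩ |>.2 (QuotientGroup.mk g)
  obtain ⟨d, hd⟩ := (Nat.bijective_iff_injective_and_card F).2 ⟨hF, by simp [hcard]⟩ |>.2 (QuotientGroup.mk 1)
  have e1 : (c : ℕ) = 0 := by rw [← hs c, key _ _ hc, hg]
  have e2 : (d : ℕ) = 0 := by rw [← hs d, key _ _ hd, pt, map_one]; rfl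
  rw [show c = d from Fin.ext (e1.trans e2.symm)] at hc
  have := hc.symm.trans hd
  rw [QuotientGroup.eq, mul_one, inv_mem_iff] at this
  exact this

theorem hSub_index : hSub.index = 31671 := mk_eq_of_pt_all.1

theorem mem_h_iff {g : Spor.Fi23} : g ∈ hSub ↔ pt g = 0 := ⟨pt_h, mk_eq_of_pt_all.2 g⟩

theorem pt_eq_iff {g g' : Spor.Fi23} : pt g = pt g' ↔ g⁻¹ * g' ∈ hSub := by
  rw [mem_h_iff, pt, pt, pt, map_mul, Equiv.Perm.mul_apply, map_inv, Equiv.Perm.inv_eq_iff_eq]
  exact eq_comm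

theorem inDouble_one {g : Spor.Fi23} (h : orb1.testBit (pt g) = true) : InDouble hSub (word ga) g := by
  obtain ⟨k, hk, e⟩ := orb1_sub h
  exact ⟨k, hk, pt_eq_iff.1 (by rw [pt, map_mul, Equiv.Perm.mul_apply, show act (word ga) 0 = pA from pt_ga, e])⟩

theorem inDouble_two {g : Spor.Fi23} (h : orb2.testBit (pt g) = true) : InDouble hSub (word gj) g := by
  obtain ⟨k, hk, e⟩ := orb2_sub h
  exact ⟨k, hk, pt_eq_iff.1 (by rw [pt, map_mul, Equiv.Perm.mul_apply, show act (word gj) 0 = pJ from pt_gj, e])⟩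

theorem decomp (g : Spor.Fi23) :
    g ∈ hSub ∨ InDouble hSub (word ga) g ∨ InDouble hSub (word gj) g := by
  rcases cover (pt_lt g) with h | h | h
  · exact Or.inl (mem_h_iff.2 h)
  · exact Or.inr (Or.inl (inDouble_one h))
  · exact Or.inr (Or.inr (inDouble_two h))

theorem hSub_maximal {C : Subgroup Spor.Fi23} (hC : hSub ≤ C) : C = hSub ∨ C = ⊤ := by
  refine rank_three_maximal decomp ?_ ?_ hC
  · have h := w1_maps
    simp only [Bool.and_eq_true] at h
    obtain ⟨⟨hm, h1⟩, h2⟩ := h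
    obtain ⟨k, hk, e⟩ := orb1_sub h1
    refine ⟨k, hk, inDouble_two ?_⟩
    rw [pt, map_mul, map_mul, Equiv.Perm.mul_apply, Equiv.Perm.mul_apply, show act (word ga) 0 = pA from pt_ga, e,
      act_maps hm]
    exact h2
  · have h := w2_maps
    simp only [Bool.and_eq_true] at h
    obtain ⟨⟨hm, h1⟩, h2⟩ := h
    obtain ⟨k, hk, e⟩ := orb2_sub h1
    refine ⟨k, hk, inDouble_one ?_⟩
    rw [pt, map_mul, map_mul, Equiv.Perm.mul_apply, Equiv.Perm.mul_apply, show act (word gj) 0 = pJ from pt_gj, e,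
      act_maps hm]
    exact h2

/-- The transposition with centraliser the first nine letters. -/
abbrev zz : Spor.Fi23 := word zW

theorem ga_zz : word ga * zz * (word ga)⁻¹ = gg 0 := by
  have h := word_eq_one ga_conj
  rw [word_append, word_append, word_append, word_reverse, word_singleton] at h
  exact (mul_eq_one_iff_eq_inv.1 h).trans (inv_eq_of_mul_eq_one_right (gg_sq 0))

theorem gj_zz : word gj * zz * (word gj)⁻¹ = gg 9 := by
  have h := word_eq_one gj_conj
  rw [word_append, word_append, word_append, word_reverse, word_singleton] at h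
  exact (mul_eq_one_iff_eq_inv.1 h).trans (inv_eq_of_mul_eq_one_right (gg_sq 9))

theorem zz_sq : zz * zz = 1 := by
  have h : (word ga * zz * (word ga)⁻¹) * (word ga * zz * (word ga)⁻¹) = 1 := by rw [ga_zz, gg_sq]
  have h' : word ga * (zz * zz) * (word ga)⁻¹ = 1 := by rw [← h]; group
  exact conj_eq_one_iff.1 h'

theorem gg_mem_h {x : ℕ} (hx : x ∈ hLetters) : gg x ∈ hSub := Subgroup.subset_closure ⟨x, hx, rfl⟩

theorem zz_mem_h : zz ∈ hSub := word_mem_h (by decide +kernel)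

theorem zz_comm {h : Spor.Fi23} (hh : h ∈ hSub) : h * zz = zz * h := by
  have hle : hSub ≤ Subgroup.centralizer {zz} := by
    rw [hSub, letterSub, Subgroup.closure_le]
    rintro _ ⟨x, hx, rfl⟩
    have h := word_eq_one (List.all_eq_true.1 z_comm x hx)
    rw [word_append, word_append, word_append, word_singleton] at h
    rw [SetLike.mem_coe, Subgroup.mem_centralizer_iff]
    intro y hy
    rw [Set.mem_singleton_iff] at hy
    subst hy
    show zz * gg x = gg x * zz
    have h1 : zz * gg x = (gg x)⁻¹ * zz⁻¹ := by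
      calc zz * gg x = (zz * gg x * zz * gg x) * ((gg x)⁻¹ * zz⁻¹) := by group
        _ = _ := by rw [h, one_mul]
    rw [h1, inv_eq_of_mul_eq_one_right (gg_sq x), inv_eq_of_mul_eq_one_right zz_sq]
  exact (Subgroup.mem_centralizer_iff.1 (hle hh) _ rfl).symm

theorem braid {x y : ℕ} (h : idOK 15 net [x, y, x, y, x, y] = true) : ∃ c : Spor.Fi23,
    (∀ K : Subgroup Spor.Fi23, gg x ∈ K → gg y ∈ K → c ∈ K) ∧ gg y = c * gg x * c⁻¹ := by
  refine ⟨gg x * gg y, fun K hx hy => mul_mem hx hy, braid_conj (gg_sq x) (gg_sq y) ?_⟩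
  have := word_eq_one h
  simp only [word, List.map_cons, List.map_nil, List.prod_cons, List.prod_nil] at this
  rw [← this]; group

theorem edge_ok {x y : ℕ} (h : (x, y) ∈ [(0, 1), (1, 2), (2, 3), (3, 4), (3, 7), (4, 5), (5, 6), (6, 9), (7, 8)]) :
    idOK 15 net [x, y, x, y, x, y] = true := by
  obtain ⟨p, hp, hw⟩ := List.mem_flatten.1 (List.contains_iff_mem.1 ((show
    ∀ q ∈ [(0, 1), (1, 2), (2, 3), (3, 4), (3, 7), (4, 5), (5, 6), (6, 9), (7, 8)],
      relParts.flatten.contains [q.1, q.2, q.1, q.2, q.1, q.2] = true by decide +kernel) _ h))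
  exact List.all_eq_true.1 (rels_ok p hp) _ hw

/-- The letters are conjugate inside any subgroup containing the letters on the way. -/
theorem gg_conj_in (K : Subgroup Spor.Fi23) (hK : ∀ x ∈ hLetters, gg x ∈ K) {y : ℕ} (hy : y ∈ hLetters) :
    ∃ c ∈ K, gg y = c * gg 0 * c⁻¹ := by
  have step : ∀ x z, x ∈ hLetters → z ∈ hLetters →
      (x, z) ∈ [(0, 1), (1, 2), (2, 3), (3, 4), (3, 7), (4, 5), (5, 6), (6, 9), (7, 8)] →
      (∃ c ∈ K, gg x = c * gg 0 * c⁻¹) → ∃ c ∈ K, gg z = c * gg 0 * c⁻¹ := by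
    rintro x z hx hz he ⟨c, hc, hxc⟩
    obtain ⟨d, hd, hzd⟩ := braid (edge_ok he)
    exact ⟨d * c, mul_mem (hd K (hK x hx) (hK z hz)) hc, by rw [hzd, hxc]; group⟩
  have h0 : ∃ c ∈ K, gg 0 = c * gg 0 * c⁻¹ := ⟨1, one_mem _, by group⟩
  have h1 := step 0 1 (by decide) (by decide) (by decide) h0
  have h2 := step 1 2 (by decide) (by decide) (by decide) h1
  have h3 := step 2 3 (by decide) (by decide) (by decide) h2
  have h4 := step 3 4 (by decide) (by decide) (by decide) h3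
  have h7 := step 3 7 (by decide) (by decide) (by decide) h3
  have h5 := step 4 5 (by decide) (by decide) (by decide) h4
  have h6 := step 5 6 (by decide) (by decide) (by decide) h5
  have h8 := step 7 8 (by decide) (by decide) (by decide) h7
  fin_cases hy <;> assumption

theorem gg_conj {x : ℕ} (hx : x < 10) : ∃ g : Spor.Fi23, gg x = g * zz * g⁻¹ := by
  by_cases h : x ∈ hLetters
  · obtain ⟨c, -, e⟩ := gg_conj_in ⊤ (fun _ _ => Subgroup.mem_top _) h
    exact ⟨c * word ga, by rw [e, ← ga_zz]; group⟩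
  · have : x = 9 := by
      simp only [hLetters, List.mem_cons, List.not_mem_nil, or_false] at h
      omega
    exact ⟨word gj, by rw [this]; exact gj_zz.symm⟩

theorem gg_big {x : ℕ} (hx : 10 ≤ x) : gg x = 1 := by
  show gen _ _ gens x = 1
  rw [gen, List.getElem?_eq_none (show gens.length ≤ x from hx)]
  rfl

theorem closure_gg_lt : Subgroup.closure {g | ∃ x < 10, g = gg x} = ⊤ := by
  rw [eq_top_iff, ← SporBound.closure_gen nodes (edges := Spor.Fi23.edges) (extra := Spor.Fi23.extra),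
    Subgroup.closure_le]
  rintro _ ⟨x, rfl⟩
  by_cases hx : x < 10
  · exact Subgroup.subset_closure ⟨x, hx, rfl⟩
  · show gg x ∈ _; rw [gg_big (by omega)]; exact one_mem _

theorem eq_top_of_gg {K : Subgroup Spor.Fi23} (h : ∀ x < 10, gg x ∈ K) : K = ⊤ := by
  rw [eq_top_iff, ← closure_gg_lt, Subgroup.closure_le]
  rintro _ ⟨x, hx, rfl⟩
  exact h x hx

theorem nontrivial_fi23 : ∃ g : Spor.Fi23, g ∉ hSub := by
  by_contra! h
  have := hSub_index
  rw [show hSub = ⊤ from eq_top_iff.2 fun g _ => h g, Subgroup.index_top] at this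
  omega

theorem center_eq_one {n : Spor.Fi23} (hn : ∀ x < 10, gg x * n = n * gg x) : n = 1 := by
  have hc : ∀ g, g * n = n * g := fun g => by
    have hg : g ∈ Subgroup.centralizer {n} := by
      rw [eq_top_of_gg (K := Subgroup.centralizer {n}) fun x hx => Subgroup.mem_centralizer_iff.2 fun y hy => by
        rw [Set.mem_singleton_iff.1 hy]; exact (hn x hx).symm]
      exact Subgroup.mem_top g
    exact (Subgroup.mem_centralizer_iff.1 hg n rfl).symm
  have hH : n ∈ hSub := by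
    rcases hSub_maximal (show hSub ≤ hSub ⊔ Subgroup.zpowers n from le_sup_left) with h | h
    · rw [← h]; exact Subgroup.mem_sup_right (Subgroup.mem_zpowers n)
    · exfalso
      have hnorm : hSub.Normal := Subgroup.normalizer_eq_top_iff.1 (eq_top_iff.2 (h ▸ sup_le hSub.le_normalizer
        (Subgroup.zpowers_le.2 (Subgroup.mem_normalizer_iff.2 fun k => by rw [← hc k, mul_inv_cancel_right]))))
      obtain ⟨g, hg⟩ := nontrivial_fi23
      refine hg ?_
      rw [show hSub = ⊤ from eq_top_of_gg fun x hx => ?_]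
      · exact Subgroup.mem_top g
      · obtain ⟨g, e⟩ := gg_conj hx
        rw [e]; exact hnorm.conj_mem _ zz_mem_h g
  refine act_injective (Equiv.ext fun c => ?_)
  rw [map_one]
  rcases Nat.lt_or_ge c 31671 with hlt | hge
  · obtain ⟨g, rfl⟩ := exists_pt hlt
    show act n (act g 0) = act g 0
    rw [← Equiv.Perm.mul_apply, ← map_mul, ← hc g, map_mul, Equiv.Perm.mul_apply, pt_h hH]
  · exact high_fix n hge

theorem relator_odd : word [0, 1, 2, 3, 4, 5, 7, 0, 1, 2, 3, 4, 5, 7, 0, 1, 2, 3, 4, 5, 7, 0, 1, 2, 3, 4, 5, 7,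
    0, 1, 2, 3, 4, 5, 7, 0, 1, 2, 3, 4, 5, 7, 0, 1, 2, 3, 4, 5, 7, 0, 1, 2, 3, 4, 5, 7, 0, 1, 2, 3, 4, 5, 7] = 1 :=
  relWord_one nodes (List.contains_iff_mem.1 (by decide +kernel))

/-- A homomorphism sending all first nine letters to one involution is trivial on them. -/
theorem hom_trivial {M : Type*} [Group M] {K : Subgroup Spor.Fi23} (hK : ∀ x ∈ hLetters, gg x ∈ K) (f : K →* M)
    {u : M} (hu : ∀ x (hx : x ∈ hLetters), f ⟨gg x, hK x hx⟩ = u) : u = 1 := by
  classical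
  have hu2 : u * u = 1 := by
    rw [← hu 0 (by decide), ← map_mul, show (⟨gg 0, hK 0 (by decide)⟩ * ⟨gg 0, _⟩ : K) = 1 from
      Subtype.ext (gg_sq 0), map_one]
  let A : ℕ → K := fun x => if h : gg x ∈ K then ⟨gg x, h⟩ else 1
  refine hom_word_odd (A := A) f hu2 [0, 1, 2, 3, 4, 5, 7, 0, 1, 2, 3, 4, 5, 7, 0, 1, 2, 3, 4, 5, 7, 0, 1, 2, 3, 4, 5, 7,
    0, 1, 2, 3, 4, 5, 7, 0, 1, 2, 3, 4, 5, 7, 0, 1, 2, 3, 4, 5, 7, 0, 1, 2, 3, 4, 5, 7, 0, 1, 2, 3, 4, 5, 7]
    ?_ rfl ?_
  · intro x hx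
    have hm : x ∈ hLetters := (show ∀ y ∈ [0, 1, 2, 3, 4, 5, 7, 0, 1, 2, 3, 4, 5, 7, 0, 1, 2, 3, 4, 5, 7, 0, 1, 2, 3,
      4, 5, 7, 0, 1, 2, 3, 4, 5, 7, 0, 1, 2, 3, 4, 5, 7, 0, 1, 2, 3, 4, 5, 7, 0, 1, 2, 3, 4, 5, 7, 0, 1, 2, 3, 4, 5,
      7], y ∈ hLetters by decide) x hx
    rw [show A x = ⟨gg x, hK x hm⟩ from dif_pos (hK x hm)]
    exact hu x hm
  · apply Subtype.ext
    rw [Subgroup.val_list_prod, List.map_map, OneMemClass.coe_one, ← relator_odd]
    congr 1
    apply List.map_congr_left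
    intro x hx
    have hm : x ∈ hLetters := (show ∀ y ∈ [0, 1, 2, 3, 4, 5, 7, 0, 1, 2, 3, 4, 5, 7, 0, 1, 2, 3, 4, 5, 7, 0, 1, 2, 3,
      4, 5, 7, 0, 1, 2, 3, 4, 5, 7, 0, 1, 2, 3, 4, 5, 7, 0, 1, 2, 3, 4, 5, 7, 0, 1, 2, 3, 4, 5, 7, 0, 1, 2, 3, 4, 5,
      7], y ∈ hLetters by decide) x hx
    rw [Function.comp_apply, show A x = ⟨gg x, hK x hm⟩ from dif_pos (hK x hm)]

theorem isSimple_fi23 : IsSimpleGroup Spor.Fi23 := by
  obtain ⟨g₀, hg₀⟩ := nontrivial_fi23
  haveI : Nontrivial Spor.Fi23 := ⟨⟨g₀, 1, fun e => hg₀ (e ▸ one_mem _)⟩⟩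
  refine ⟨fun N hN => ?_⟩
  rcases hSub_maximal (show hSub ≤ hSub ⊔ N from le_sup_left) with h | h
  · refine Or.inl ((Subgroup.eq_bot_iff_forall N).2 fun n hn => act_injective (Equiv.ext fun c => ?_))
    rw [map_one]
    rcases Nat.lt_or_ge c 31671 with hlt | hge
    · obtain ⟨g, rfl⟩ := exists_pt hlt
      show act n (act g 0) = act g 0
      have hm : g⁻¹ * n * g⁻¹⁻¹ ∈ hSub := h ▸ Subgroup.mem_sup_right (hN.conj_mem n hn g⁻¹)
      rw [← Equiv.Perm.mul_apply, ← map_mul, show n * g = g * (g⁻¹ * n * g⁻¹⁻¹) by group]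
      exact pt_mul_h g hm
    · exact high_fix n hge
  · right
    have hu : ∀ x < 10, (QuotientGroup.mk' N) (gg x) = (QuotientGroup.mk' N) zz := by
      intro x hx
      obtain ⟨g, e⟩ := gg_conj hx
      have hg : g ∈ N ⊔ hSub := by rw [sup_comm, h]; exact Subgroup.mem_top g
      obtain ⟨n, hn, k, hk, rfl⟩ := Subgroup.mem_sup_of_normal_left.1 hg
      rw [e, show n * k * zz * (n * k)⁻¹ = n * (k * zz * k⁻¹) * n⁻¹ by group, zz_comm hk, mul_inv_cancel_right,
        map_mul, map_mul, map_inv, show (QuotientGroup.mk' N) n = 1 from (QuotientGroup.eq_one_iff n).2 hn,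
        one_mul, inv_one, mul_one]
    have h1 : (QuotientGroup.mk' N) zz = 1 :=
      hom_trivial (K := ⊤) (fun _ _ => Subgroup.mem_top _) ((QuotientGroup.mk' N).comp (⊤ : Subgroup _).subtype)
        fun x hx => hu x ((show ∀ y ∈ hLetters, y < 10 by decide) x hx)
    refine eq_top_of_gg fun x hx => ?_
    rw [← QuotientGroup.eq_one_iff]
    exact (hu x hx).trans h1

theorem isFi23 : IsFi23 Spor.Fi23 := ⟨isSimple_fi23, card_fi23⟩

theorem centralizer_zz : Subgroup.centralizer {zz} = hSub := by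
  have hle : hSub ≤ Subgroup.centralizer {zz} := fun h hh => Subgroup.mem_centralizer_iff.2 fun y hy => by
    rw [Set.mem_singleton_iff.1 hy]; exact (zz_comm hh).symm
  rcases hSub_maximal hle with h | h
  · exact h
  exfalso
  have hz : ∀ g, g * zz = zz * g := fun g =>
    (Subgroup.mem_centralizer_iff.1 (h ▸ Subgroup.mem_top g : g ∈ Subgroup.centralizer {zz}) zz rfl).symm
  have h1 : zz = 1 := center_eq_one fun x _ => hz (gg x)
  obtain ⟨g, hg⟩ := nontrivial_fi23
  refine hg ?_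
  rw [show hSub = ⊤ from eq_top_of_gg fun x hx => ?_]
  · exact Subgroup.mem_top g
  · obtain ⟨g, e⟩ := gg_conj hx
    rw [e, h1, mul_one, mul_inv_cancel]; exact one_mem _

theorem orderOf_zz : orderOf zz = 2 := by
  refine orderOf_eq_prime (by rw [pow_two]; exact zz_sq) fun h1 => ?_
  have := centralizer_zz
  rw [h1] at this
  obtain ⟨g, hg⟩ := nontrivial_fi23
  exact hg (this ▸ Subgroup.mem_centralizer_iff.2 fun y hy => by rw [Set.mem_singleton_iff.1 hy, one_mul, mul_one])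

/-- The transpositions. -/
abbrev trans : Set Spor.Fi23 := conjugatesOf zz

theorem mem_trans {d : Spor.Fi23} : d ∈ trans ↔ ∃ g, d = g * zz * g⁻¹ := by
  show IsConj zz d ↔ _
  rw [isConj_iff]
  exact ⟨fun ⟨g, e⟩ => ⟨g, e.symm⟩, fun ⟨g, e⟩ => ⟨g, e.symm⟩⟩

theorem card_trans : Nat.card trans = 31671 := by
  rw [← hSub_index, Subgroup.index_eq_card]
  refine (Nat.card_congr (Equiv.ofBijective (fun q : Spor.Fi23 ⧸ hSub => Quotient.liftOn' q
    (fun g => (⟨g * zz * g⁻¹, mem_trans.2 ⟨g, rfl⟩⟩ : trans)) fun g g' e => ?_) ⟨?_, ?_⟩)).symm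
  · rw [QuotientGroup.leftRel_apply] at e
    refine Subtype.ext ?_
    show g * zz * g⁻¹ = g' * zz * g'⁻¹
    have := zz_comm e
    calc g * zz * g⁻¹ = g * (zz * (g⁻¹ * g')) * (g⁻¹ * g')⁻¹ * g⁻¹ := by group
      _ = g * ((g⁻¹ * g') * zz) * (g⁻¹ * g')⁻¹ * g⁻¹ := by rw [this]
      _ = _ := by group
  · intro q q'
    induction q using QuotientGroup.induction_on with
    | _ g =>
      induction q' using QuotientGroup.induction_on with
      | _ g' =>
        intro e
        rw [QuotientGroup.eq, ← centralizer_zz, Subgroup.mem_centralizer_iff]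
        intro y hy
        rw [Set.mem_singleton_iff.1 hy]
        have e' : g * zz * g⁻¹ = g' * zz * g'⁻¹ := congrArg Subtype.val e
        calc zz * (g⁻¹ * g') = g⁻¹ * (g * zz * g⁻¹) * g' := by group
          _ = _ := by rw [e']; group
  · rintro ⟨d, hd⟩
    obtain ⟨g, rfl⟩ := mem_trans.1 hd
    exact ⟨QuotientGroup.mk g, rfl⟩

theorem closure_trans : Subgroup.closure trans = ⊤ := eq_top_of_gg fun x hx =>
  Subgroup.subset_closure (mem_trans.2 (gg_conj hx))

theorem pair_order (m : Spor.Fi23) : (zz * (m * zz * m⁻¹)) ^ 2 = 1 ∨ (zz * (m * zz * m⁻¹)) ^ 3 = 1 := by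
  have key : ∀ (x : Spor.Fi23) (n : ℕ), InDouble hSub x m → (zz * (x * zz * x⁻¹)) ^ n = 1 →
      (zz * (m * zz * m⁻¹)) ^ n = 1 := by
    rintro x n ⟨k, hk, h'⟩ hx
    have e : zz * (m * zz * m⁻¹) = k * (zz * (x * zz * x⁻¹)) * k⁻¹ := by
      have h1 : ((k * x)⁻¹ * m) * zz * ((k * x)⁻¹ * m)⁻¹ = zz := by rw [zz_comm h', mul_inv_cancel_right]
      have h2 : k * zz * k⁻¹ = zz := by rw [zz_comm hk, mul_inv_cancel_right]
      calc zz * (m * zz * m⁻¹) = (k * zz * k⁻¹) * ((k * x) * (((k * x)⁻¹ * m) * zz * ((k * x)⁻¹ * m)⁻¹) * (k * x)⁻¹) := by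
            rw [h2]; group
        _ = _ := by rw [h1]; group
    rw [e, conj_pow, hx, mul_one, mul_inv_cancel]
  rcases decomp m with h | h | h
  · left
    rw [zz_comm h, mul_inv_cancel_right, zz_sq, one_pow]
  · refine Or.inl (key _ 2 h ?_)
    rw [ga_zz, pow_two]
    have e := zz_comm (gg_mem_h (show (0 : ℕ) ∈ hLetters by decide))
    calc zz * gg 0 * (zz * gg 0) = zz * (gg 0 * zz) * gg 0 := by group
      _ = zz * zz * (gg 0 * gg 0) := by rw [e]; group
      _ = 1 := by rw [zz_sq, gg_sq, one_mul]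
  · refine Or.inr (key _ 3 h ?_)
    rw [gj_zz]
    have e := word_eq_one zj_cube
    rw [word_append, word_append, word_append, word_append, word_append, word_singleton] at e
    rw [pow_succ, pow_two, ← e]; group

theorem trans_class : IsThreeTranspositionClass trans := by
  refine ⟨⟨fun d hd => ?_, fun d hd f hf => ?_⟩, ⟨zz, mem_conjugatesOf_self, rfl⟩, closure_trans⟩
  · obtain ⟨g, rfl⟩ := mem_trans.1 hd
    rw [← MulAut.conj_apply]
    exact (orderOf_injective (MulAut.conj g).toMonoidHom (MulAut.conj g).injective zz).trans orderOf_zz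
  · obtain ⟨g, rfl⟩ := mem_trans.1 hd
    obtain ⟨k, rfl⟩ := mem_trans.1 hf
    have e : g * zz * g⁻¹ * (k * zz * k⁻¹) = g * (zz * ((g⁻¹ * k) * zz * (g⁻¹ * k)⁻¹)) * g⁻¹ := by group
    rcases pair_order (g⁻¹ * k) with h | h
    · exact Or.inl (by rw [e, conj_pow, h, mul_one, mul_inv_cancel])
    · exact Or.inr (by rw [e, conj_pow, h, mul_one, mul_inv_cancel])

end CfsgLib.Recog.FiThree
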