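import Cfsg.Agent.Lib.Recog.FiThree.Data

set_option autoImplicit false
set_option maxRecDepth 20000

/-! Checks (owner: helper21). -/

namespace CfsgLib.Recog.FiThree
open CfsgLib.Recog.BitPerm
open CfsgLib.ThreeTrans.CosetIndex
open Cfsg

/-- The number of points. -/
@[irreducible] def numPoints : ℕ := 31671

theorem numPoints_eq : numPoints = 31671 := by unfold numPoints; rfl

theorem fix_zero : (hLetters.all fun x => mapsOK net [x] 0 0) = true := by decide +kernel

theorem ga_maps : mapsOK net ga 0 pA = true := by decide +kernel

theorem gj_maps : mapsOK net gj 0 pJ = true := by decide +kernel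

theorem z_maps : mapsOK net zW pJ pZ = true := by decide +kernel

theorem k_maps : (kWords.all fun w => (mapsOK net w 0 0 && mapsOK net w pA pA && w.all (hLetters.contains ·))) = true := by decide +kernel

theorem l_maps : (lWords.all fun w => (mapsOK net w pJ pJ && w.all (hLetters.contains ·))) = true := by decide +kernel

theorem hA_maps : (mapsOK net hA pA pSmall && hA.all (hLetters.contains ·)) = true := by decide +kernel

theorem hB_maps : (mapsOK net hB pA pLarge && hB.all (hLetters.contains ·)) = true := by decide +kernel

theorem w1_maps : (mapsOK net ga 73 1 && (orb1).testBit 73 && (orb2).testBit 1) = true := by decide +kernel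

theorem w2_maps : (mapsOK net gj 36 8000 && (orb2).testBit 36 && (orb1).testBit 8000) = true := by decide +kernel

theorem v1_maps : (mapsOK net hA 77 878 && (sub1).testBit 77 && (sub2).testBit 878) = true := by decide +kernel

theorem v2_maps : (mapsOK net hB 73 53 && (sub2).testBit 73 && (sub1).testBit 53) = true := by decide +kernel

theorem orb1_closed : closedOK net hWords orb1 = true := by decide +kernel

theorem orb2_closed : closedOK net hWords orb2 = true := by decide +kernel

theorem orb_cover : Nat.beq (Nat.lor (Nat.lor orb1 orb2) 1) (2 ^ numPoints - 1) = true := by decide +kernel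

theorem all_closed : closedOK net allWords (2 ^ 31671 - 1) = true := by decide +kernel

theorem sub1_closed : closedOK net kWords sub1 = true := by decide +kernel

theorem sub2_closed : closedOK net kWords sub2 = true := by decide +kernel

theorem sub_cover : Nat.beq (Nat.lor (Nat.lor sub1 sub2) (Nat.shiftLeft 1 pA)) orb1 = true := by decide +kernel

theorem orb1_count : Nat.beq (bitCountBlocks orb1 128) 3510 = true := by decide +kernel

theorem orb2_count : Nat.beq (bitCountBlocks orb2 128) 28160 = true := by decide +kernel

end CfsgLib.Recog.FiThree
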