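import Cfsg.Agent.Lib.Recog.BitPerm.Group
import Cfsg.Prelude.Def_Spor_Fi23
import Cfsg.Agent.Lib.Recog.FiThree.Net0
import Cfsg.Agent.Lib.Recog.FiThree.Net1
import Cfsg.Agent.Lib.Recog.FiThree.Net2
import Cfsg.Agent.Lib.Recog.FiThree.Net3
import Cfsg.Agent.Lib.Recog.FiThree.Net4
import Cfsg.Agent.Lib.Recog.FiThree.Net5
import Cfsg.Agent.Lib.Recog.FiThree.Net6
import Cfsg.Agent.Lib.Recog.FiThree.Net7
import Cfsg.Agent.Lib.Recog.FiThree.Net8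
import Cfsg.Agent.Lib.Recog.FiThree.Net9

set_option autoImplicit false
set_option maxRecDepth 20000

/-! The action of Fi23 on 31671 points: networks and words (owner: helper21). -/

namespace CfsgLib.Recog.FiThree
open CfsgLib.Recog.BitPerm
open Cfsg

/-- The generators in the order of the letters. -/
def gens : List Spor.Fi23.Gen := [.a, .b, .c, .d, .e, .f, .g, .h, .i, .j]

/-- The networks. -/
noncomputable def net (x : ℕ) : List Stage := [net0, net1, net2, net3, net4, net5, net6, net7, net8, net9].getD x []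

/-- The central involution of the first nine generators. -/
def zW : List ℕ := [1, 2, 3, 4, 5, 6, 7, 1, 2, 3, 4, 5, 6, 7, 1, 2, 3, 4, 5, 6, 7, 1, 2, 3, 4, 5, 6, 7, 1, 2, 3, 4, 5, 6, 7, 1, 2, 3, 4, 5, 6, 7, 1, 2, 3, 4, 5, 6, 7, 1, 2, 3, 4, 5, 6, 7, 1, 2, 3, 4, 5, 6, 7]

/-- Moves the base point to the point of `a`. -/
def ga : List ℕ := [1, 2, 3, 4, 5, 6, 9, 7, 3, 4, 2, 3, 7, 5, 6, 4, 5, 3, 4, 2, 3, 7, 0, 1, 2, 3, 4, 5, 6, 9]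

/-- Moves the base point to the point of `j`. -/
def gj : List ℕ := [6, 5, 4, 3, 7, 2, 3, 4, 1, 2, 3, 7, 5, 6, 4, 5, 3, 4, 2, 3, 7, 1, 2, 3, 4, 5, 6, 9]

/-- Letters of the point stabiliser. -/
def hLetters : List ℕ := [0, 1, 2, 3, 4, 5, 6, 7, 8]

/-- Their words. -/
def hWords : List (List ℕ) := hLetters.map fun x => [x]

/-- All letters as words. -/
def allWords : List (List ℕ) := (List.range 10).map fun x => [x]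

/-- Words fixing the base point and the point of `a`. -/
def kWords : List (List ℕ) := [[0], [2], [3], [4], [5], [6], [7], [8], [0, 1, 2, 3, 4, 7, 0, 1, 2, 3, 4, 7, 0, 1, 2, 3, 4, 7, 0, 1, 2, 3, 4, 7, 0, 1, 2, 3, 4, 7]]

/-- Words fixing the base point and the point of `j`. -/
def lWords : List (List ℕ) := [[0], [1], [2], [3], [4], [5], [7], [8]]

/-- Moves the point of `a` into the suborbit of size 693. -/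
def hA : List ℕ := [1, 2, 3, 7, 4, 5, 3, 4, 2, 3, 7, 6, 5, 4, 3, 2, 0, 1]

/-- Moves the point of `a` into the suborbit of size 2816. -/
def hB : List ℕ := [2, 3, 7, 4, 5, 3, 4, 2, 3, 7, 6, 5, 4, 3, 2, 0, 1]

/-- A point. -/
def pA : ℕ := 11589

/-- A point. -/
def pJ : ℕ := 7999

/-- A point. -/
def pZ : ℕ := 1

/-- A point. -/
def pSmall : ℕ := 53

/-- A point. -/
def pLarge : ℕ := 73

/-- The orbit of size 3510. -/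
noncomputable def orb1 : ℕ := orbitSet net hWords pA 6

/-- The orbit of size 28160. -/
noncomputable def orb2 : ℕ := orbitSet net hWords pJ 12

/-- The suborbit of size 693. -/
noncomputable def sub1 : ℕ := orbitSet net kWords pSmall 6

/-- The suborbit of size 2816. -/
noncomputable def sub2 : ℕ := orbitSet net kWords pLarge 5

/-- The orbit chain. -/
def levels : List Level := [
  ⟨0, [[9], [6], [5], [4], [3], [7], [8], [2], [1], [0]], 9, 31671⟩,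
  ⟨8000, [[5], [4], [6], [3], [7], [2], [9, 1, 9], [8], [0]], 6, 3510⟩,
  ⟨2527, [[8], [5, 4, 3, 7, 2, 3, 4, 5, 6, 5, 4, 3, 2, 7, 3, 4, 5], [1], [2], [3], [7], [0], [4]], 4, 693⟩,
  ⟨715, [[3], [7], [2], [4], [5, 1, 5], [8, 0, 8], [5, 4, 3, 7, 2, 3, 4, 5, 6, 5, 4, 3, 2, 7, 3, 4, 5], [8, 7, 3, 2, 1, 0, 4, 3, 2, 1, 7, 8, 5, 4, 3, 7, 2, 3, 4, 5, 6, 5, 4, 3, 2, 7, 3, 4, 5, 8, 7, 1, 2, 3, 4, 0, 1, 2, 3, 7, 8]], 3, 180⟩,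
  ⟨727, [[3, 2, 1, 0, 4, 3, 8, 7, 3, 2, 1, 0, 4, 3, 2, 1, 7, 8, 5, 4, 3, 7, 2, 3, 4, 5, 6, 5, 4, 3, 2, 7, 3, 4, 5, 8, 7, 1, 2, 3, 4, 0, 1, 2, 3, 7, 8, 3, 1, 8, 7, 3, 2, 1, 0, 4, 3, 2, 1, 7, 8, 5, 4, 3, 7, 2, 3, 4, 5, 6, 5, 4, 3, 2, 7, 3, 4, 5, 8, 7, 1, 2, 3, 4, 0, 1, 2, 3, 7, 8, 2, 3]], 2, 3⟩,
  ⟨53, [[1], [0], [9, 2, 9], [3, 7, 2, 4, 3, 4, 2, 7, 3], [5, 4, 3, 7, 2, 3, 4, 5, 6, 5, 4, 3, 2, 7, 3, 4, 5], [8, 7, 3, 2, 1, 0, 4, 3, 2, 1, 7, 8, 5, 4, 3, 7, 2, 3, 4, 5, 6, 5, 4, 3, 2, 7, 3, 4, 5, 8, 7, 1, 2, 3, 4, 0, 1, 2, 3, 7, 8]], 2, 48⟩,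
  ⟨1, [[6], [5, 4, 3, 7, 2, 3, 4, 5, 6, 5, 4, 3, 2, 7, 3, 4, 5], [1, 2, 0, 1, 5, 4, 3, 7, 2, 3, 4, 5, 6, 5, 4, 3, 2, 7, 3, 4, 5, 1, 0, 2, 1], [1, 0, 3, 7, 2, 4, 3, 4, 2, 7, 3, 1, 5, 4, 3, 7, 2, 3, 4, 5, 6, 5, 4, 3, 2, 7, 3, 4, 5, 1, 3, 7, 2, 4, 3, 4, 2, 7, 3, 0, 1], [8, 7, 3, 2, 1, 0, 4, 3, 2, 1, 7, 8, 5, 4, 3, 7, 2, 3, 4, 5, 6, 5, 4, 3, 2, 7, 3, 4, 5, 8, 7, 1, 2, 3, 4, 0, 1, 2, 3, 7, 8]], 1, 32⟩,
  ⟨17, [[0], [3, 7, 2, 4, 3, 4, 2, 7, 3], [1, 2, 0, 1, 3, 7, 2, 4, 3, 4, 2, 7, 3, 1, 0, 2, 1]], 1, 8⟩,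
  ⟨3, [[4]], 1, 2⟩,
  ⟨8, [[7]], 1, 2⟩,
  ⟨5, [[2]], 1, 2⟩]

end CfsgLib.Recog.FiThree
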