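import Cfsg.Agent.Lib.Recog.FiThree.Data
import Cfsg.Agent.Lib.Recog.SporBound.TriF1.Valid
import Cfsg.Agent.Lib.Recog.SporBound.TriF2.Valid
import Cfsg.Agent.Lib.Recog.SporBound.TriF3.Valid
import Cfsg.Agent.Lib.Recog.SporBound.TriF4.Valid
import Cfsg.Agent.Lib.Recog.SporBound.TriF5.Valid
import Cfsg.Agent.Lib.Recog.SporBound.TriF6.Valid
import Cfsg.Agent.Lib.Recog.SporBound.TriF6Q.Valid
import Cfsg.Agent.Lib.Recog.SporBound.TriF7.Valid
import Cfsg.Agent.Lib.Recog.SporBound.TriF8.Valid
import Cfsg.Agent.Lib.Recog.SporBound.TriF9.Valid
import Cfsg.Prelude.Def_Spor_Fi22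

set_option autoImplicit false
set_option maxRecDepth 20000
set_option linter.style.haveILetI false

/-!
Order bounds for the presented groups Fi22 and Fi23 by a tower of parabolic subgroups (owner: helper21).
-/

namespace CfsgLib.Recog.FiThree

open Cfsg CfsgLib.Recog.SporBound CfsgLib.ThreeTrans.CosetIndex

section Step

variable {α : Type} [DecidableEq α] {edges : List (α × ℕ × α)} {extra : List (FreeGroup α)} {gens : List α}

/-- A subgroup of letters is finite of order at most `m`. -/
def Below (edges : List (α × ℕ × α)) (extra : List (FreeGroup α)) (gens : List α) (kl : List ℕ) (m : ℕ) : Prop :=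
  Finite (letterSub edges extra gens kl) ∧ Nat.card (letterSub edges extra gens kl) ≤ m

theorem below_nil : Below edges extra gens [] 1 := by
  have : letterSub edges extra gens [] = ⊥ := by
    rw [letterSub, Subgroup.closure_eq_bot_iff]
    rintro g ⟨x, hx, -⟩
    exact absurd hx List.not_mem_nil
  unfold Below
  rw [this]
  exact ⟨inferInstance, by simp⟩

/-- One storey. -/
theorem below_step (hN : Nodes edges gens) {C : Cert} (hC : C.OK) {kl kl' : List ℕ} {m n : ℕ}
    (h : Below edges extra gens kl m)
    (hrel : C.rels.all (fun w => (relWords edges extra gens).contains w) = true)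
    (hsub : C.subs.all (fun w => w.all (kl.contains ·)) = true) (hkl : C.kl = kl') (hn : C.n * m = n) :
    Below edges extra gens kl' n := by
  subst hkl hn
  haveI := h.1
  refine tower_step hN hC _ h.2 (rels_one hN (more := []) (by simp) ?_) (wordsIn_letterSub hsub)
  refine List.all_eq_true.2 fun w hw => ?_
  rw [List.all_eq_true.1 hrel w hw]
  rfl

/-- Few cosets of the letters below in the whole group. -/
theorem index_step (hN : Nodes edges gens) {C : Cert} (hC : C.OK) {kl : List ℕ}
    (hrel : C.rels.all (fun w => (relWords edges extra gens).contains w) = true)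
    (hsub : C.subs.all (fun w => w.all (kl.contains ·)) = true) (hkl : C.kl = List.range gens.length) :
    Finite (Spor.CoxPresented α edges extra ⧸ letterSub edges extra gens kl) ∧
      Nat.card (Spor.CoxPresented α edges extra ⧸ letterSub edges extra gens kl) ≤ C.n := by
  obtain ⟨v, hv0, -, horb⟩ := Cert.exists_orbit (gen_inv hN) (gen_eq hN) hC (letterSub edges extra gens kl)
    (rels_one hN (more := []) (by simp) (List.all_eq_true.2 fun w hw => by rw [List.all_eq_true.1 hrel w hw]; rfl))
    (wordsIn_letterSub hsub)
  have hall : ∀ g : Spor.CoxPresented α edges extra, ∃ c : Fin C.n, v (C.nodeOf c) =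
      (QuotientGroup.mk g : Spor.CoxPresented α edges extra ⧸ letterSub edges extra gens kl) := by
    intro g
    have hg : g ∈ letterSub edges extra gens C.kl := by rw [hkl, letterSub_range hN]; exact Subgroup.mem_top g
    obtain ⟨c, hc, hcv⟩ := horb g hg
    exact ⟨⟨c, hc⟩, by rw [← hcv, hv0, MulAction.Quotient.smul_coe, smul_eq_mul, mul_one]⟩
  have hs : Function.Surjective fun c : Fin C.n => v (C.nodeOf c) :=
    fun q => QuotientGroup.induction_on q hall
  haveI := Finite.of_surjective _ hs
  exact ⟨inferInstance, (Nat.card_le_card_of_surjective _ hs).trans_eq (by simp)⟩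

end Step

/-- The generators of Fi22 in the order of the letters. -/
def gens22 : List Spor.Fi22.Gen := [.a, .b, .c, .d, .e, .f, .g, .h, .i]

theorem nodes : Nodes Spor.Fi23.edges gens where
  nodes y := by cases y <;> decide
  mem y := by cases y <;> decide
  small := by decide

theorem nodes22 : Nodes Spor.Fi22.edges gens22 where
  nodes y := by cases y <;> decide
  mem y := by cases y <;> decide
  small := by decide

theorem below_w7 : Below Spor.Fi23.edges Spor.Fi23.extra gens [1, 2, 3, 4, 5, 6, 7] 2903040 :=
  below_step nodes TriF6.ok
    (below_step nodes TriF5.ok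
      (below_step nodes TriF4.ok
        (below_step nodes TriF3.ok
          (below_step nodes TriF2.ok
            (below_step nodes TriF1.ok below_nil (kl' := [1, 2]) (n := 6) (by decide +kernel) (by decide +kernel)
              (by decide +kernel) (by decide +kernel))
            (kl' := [1, 2, 3]) (n := 24) (by decide +kernel) (by decide +kernel) (by decide +kernel) (by decide +kernel))
          (kl' := [1, 2, 3, 4]) (n := 120) (by decide +kernel) (by decide +kernel) (by decide +kernel) (by decide +kernel))
        (kl' := [1, 2, 3, 4, 5]) (n := 720) (by decide +kernel) (by decide +kernel) (by decide +kernel) (by decide +kernel))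
      (kl' := [1, 2, 3, 4, 5, 6]) (n := 5040) (by decide +kernel) (by decide +kernel) (by decide +kernel) (by decide +kernel))
    (by decide +kernel) (by decide +kernel) (by decide +kernel) (by decide +kernel)

theorem below_h : Below Spor.Fi23.edges Spor.Fi23.extra gens hLetters 129123503308800 :=
  below_step nodes TriF8.ok
    (below_step nodes TriF7.ok below_w7 (kl' := [1, 2, 3, 4, 5, 6, 7, 8]) (n := 9170703360)
      (by decide +kernel) (by decide +kernel) (by decide +kernel) (by decide +kernel))
    (by decide +kernel) (by decide +kernel) (by decide +kernel) (by decide +kernel)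

theorem below_top : Below Spor.Fi23.edges Spor.Fi23.extra gens (List.range 10) 4089470473293004800 :=
  below_step nodes TriF9.ok below_h (by decide +kernel) (by decide +kernel) (by decide +kernel) (by decide +kernel)

theorem finite_fi23 : Finite Spor.Fi23 := by
  have h := below_top.1
  rw [show List.range 10 = List.range gens.length from rfl, letterSub_range nodes] at h
  exact Finite.of_equiv _ Subgroup.topEquiv.toEquiv

theorem card_fi23_le : Nat.card Spor.Fi23 ≤ 4089470473293004800 := by
  have h := below_top.2
  rwa [show List.range 10 = List.range gens.length from rfl, letterSub_range nodes, Subgroup.card_top] at h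

theorem index_h_le : Nat.card (Spor.Fi23 ⧸ letterSub Spor.Fi23.edges Spor.Fi23.extra gens hLetters) ≤ 31671 :=
  (index_step nodes TriF9.ok (by decide +kernel) (by decide +kernel) (by decide +kernel)).2.trans_eq
    (show TriF9.cert.n = 31671 by decide +kernel)

theorem below22 : Below Spor.Fi22.edges Spor.Fi22.extra gens22 (List.range 9) 64561751654400 :=
  below_step nodes22 TriF8.ok
    (below_step nodes22 TriF7.ok
      (below_step nodes22 TriF6Q.ok
        (below_step nodes22 TriF5.ok
          (below_step nodes22 TriF4.ok
            (below_step nodes22 TriF3.ok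
              (below_step nodes22 TriF2.ok
                (below_step nodes22 TriF1.ok below_nil (kl' := [1, 2]) (n := 6) (by decide +kernel) (by decide +kernel)
                  (by decide +kernel) (by decide +kernel))
                (kl' := [1, 2, 3]) (n := 24) (by decide +kernel) (by decide +kernel) (by decide +kernel) (by decide +kernel))
              (kl' := [1, 2, 3, 4]) (n := 120) (by decide +kernel) (by decide +kernel) (by decide +kernel) (by decide +kernel))
            (kl' := [1, 2, 3, 4, 5]) (n := 720) (by decide +kernel) (by decide +kernel) (by decide +kernel) (by decide +kernel))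
          (kl' := [1, 2, 3, 4, 5, 6]) (n := 5040) (by decide +kernel) (by decide +kernel) (by decide +kernel) (by decide +kernel))
        (kl' := [1, 2, 3, 4, 5, 6, 7]) (n := 1451520) (by decide +kernel) (by decide +kernel) (by decide +kernel) (by decide +kernel))
      (kl' := [1, 2, 3, 4, 5, 6, 7, 8]) (n := 4585351680) (by decide +kernel) (by decide +kernel) (by decide +kernel) (by decide +kernel))
    (by decide +kernel) (by decide +kernel) (by decide +kernel) (by decide +kernel)

theorem finite_fi22 : Finite Spor.Fi22 := by
  have h := below22.1
  rw [show List.range 9 = List.range gens22.length from rfl, letterSub_range nodes22] at h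
  exact Finite.of_equiv _ Subgroup.topEquiv.toEquiv

theorem card_fi22_le : Nat.card Spor.Fi22 ≤ 64561751654400 := by
  have h := below22.2
  rwa [show List.range 9 = List.range gens22.length from rfl, letterSub_range nodes22, Subgroup.card_top] at h

end CfsgLib.Recog.FiThree
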