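import Cfsg.Agent.Lib.Recog.FiThree.Data

set_option autoImplicit false
set_option maxRecDepth 20000

/-! Checks (owner: helper21). -/

namespace CfsgLib.Recog.FiThree
open CfsgLib.Recog.BitPerm
open CfsgLib.ThreeTrans.CosetIndex
open Cfsg

theorem chain_ok : chainOK net 128 [] levels = true := by decide +kernel

theorem total_eq : total levels = 4089470473293004800 := by decide +kernel

end CfsgLib.Recog.FiThree
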