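import Cfsg.Agent.Lib.Recog.FiThree.Data

set_option autoImplicit false
set_option maxRecDepth 20000

/-! Checks (owner: helper21). -/

namespace CfsgLib.Recog.FiThree
open CfsgLib.Recog.BitPerm
open CfsgLib.ThreeTrans.CosetIndex
open Cfsg

/-- The relators. -/
def relParts : List (List (List ℕ)) := [
  [[0, 0], [0, 1, 0, 1, 0, 1], [0, 2, 0, 2], [0, 3, 0, 3], [0, 4, 0, 4], [0, 5, 0, 5], [0, 6, 0, 6], [0, 7, 0, 7], [0, 8, 0, 8], [0, 9, 0, 9], [1, 0, 1, 0, 1, 0], [1, 1], [1, 2, 1, 2, 1, 2], [1, 3, 1, 3], [1, 4, 1, 4], [1, 5, 1, 5], [1, 6, 1, 6], [1, 7, 1, 7], [1, 8, 1, 8], [1, 9, 1, 9], [2, 0, 2, 0], [2, 1, 2, 1, 2, 1]],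
  [[2, 2], [2, 3, 2, 3, 2, 3], [2, 4, 2, 4], [2, 5, 2, 5], [2, 6, 2, 6], [2, 7, 2, 7], [2, 8, 2, 8], [2, 9, 2, 9], [3, 0, 3, 0], [3, 1, 3, 1], [3, 2, 3, 2, 3, 2], [3, 3], [3, 4, 3, 4, 3, 4], [3, 5, 3, 5], [3, 6, 3, 6], [3, 7, 3, 7, 3, 7], [3, 8, 3, 8], [3, 9, 3, 9], [4, 0, 4, 0], [4, 1, 4, 1], [4, 2, 4, 2], [4, 3, 4, 3, 4, 3]],
  [[4, 4], [4, 5, 4, 5, 4, 5], [4, 6, 4, 6], [4, 7, 4, 7], [4, 8, 4, 8], [4, 9, 4, 9], [5, 0, 5, 0], [5, 1, 5, 1], [5, 2, 5, 2], [5, 3, 5, 3], [5, 4, 5, 4, 5, 4], [5, 5], [5, 6, 5, 6, 5, 6], [5, 7, 5, 7], [5, 8, 5, 8], [5, 9, 5, 9], [6, 0, 6, 0], [6, 1, 6, 1], [6, 2, 6, 2], [6, 3, 6, 3], [6, 4, 6, 4], [6, 5, 6, 5, 6, 5]],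
  [[6, 6], [6, 7, 6, 7], [6, 8, 6, 8], [6, 9, 6, 9, 6, 9], [7, 0, 7, 0], [7, 1, 7, 1], [7, 2, 7, 2], [7, 3, 7, 3, 7, 3], [7, 4, 7, 4], [7, 5, 7, 5], [7, 6, 7, 6], [7, 7], [7, 8, 7, 8, 7, 8], [7, 9, 7, 9], [8, 0, 8, 0], [8, 1, 8, 1], [8, 2, 8, 2], [8, 3, 8, 3], [8, 4, 8, 4], [8, 5, 8, 5], [8, 6, 8, 6], [8, 7, 8, 7, 8, 7]],
  [[8, 8], [8, 9, 8, 9], [9, 0, 9, 0], [9, 1, 9, 1], [9, 2, 9, 2], [9, 3, 9, 3], [9, 4, 9, 4], [9, 5, 9, 5], [9, 6, 9, 6, 9, 6], [9, 7, 9, 7], [9, 8, 9, 8], [9, 9], [3, 2, 1, 3, 4, 5, 3, 7, 8, 3, 2, 1, 3, 4, 5, 3, 7, 8, 3, 2, 1, 3, 4, 5, 3, 7, 8, 3, 2, 1, 3, 4, 5, 3, 7, 8, 3, 2, 1, 3, 4, 5, 3, 7, 8, 3, 2, 1, 3, 4, 5, 3, 7, 8, 3, 2, 1, 3, 4, 5, 3, 7, 8, 3, 2, 1, 3, 4, 5, 3, 7, 8, 3, 2, 1, 3, 4, 5, 3, 7, 8, 3, 2, 1, 3, 4, 5, 3, 7, 8]],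
  [[0, 1, 2, 3, 4, 5, 7, 0, 1, 2, 3, 4, 5, 7, 0, 1, 2, 3, 4, 5, 7, 0, 1, 2, 3, 4, 5, 7, 0, 1, 2, 3, 4, 5, 7, 0, 1, 2, 3, 4, 5, 7, 0, 1, 2, 3, 4, 5, 7, 0, 1, 2, 3, 4, 5, 7, 0, 1, 2, 3, 4, 5, 7]]]

theorem rel_cover : (relWords Spor.Fi23.edges Spor.Fi23.extra gens).all (relParts.flatten.contains ·) = true := by decide +kernel

theorem nets_ok : netsOK 15 10 net = true := by decide +kernel

theorem relPart0 : ((relParts.getD 0 []).all fun w => idOK 15 net w) = true := by decide +kernel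

theorem relPart1 : ((relParts.getD 1 []).all fun w => idOK 15 net w) = true := by decide +kernel

theorem relPart2 : ((relParts.getD 2 []).all fun w => idOK 15 net w) = true := by decide +kernel

theorem relPart3 : ((relParts.getD 3 []).all fun w => idOK 15 net w) = true := by decide +kernel

theorem relPart4 : ((relParts.getD 4 []).all fun w => idOK 15 net w) = true := by decide +kernel

theorem relPart5 : ((relParts.getD 5 []).all fun w => idOK 15 net w) = true := by decide +kernel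

theorem rels_ok : ∀ p ∈ relParts, (p.all fun w => idOK 15 net w) = true := by
  intro p hp
  simp only [relParts, List.mem_cons, List.not_mem_nil, or_false] at hp
  rcases hp with rfl | rfl | rfl | rfl | rfl | rfl
  · exact relPart0
  · exact relPart1
  · exact relPart2
  · exact relPart3
  · exact relPart4
  · exact relPart5

end CfsgLib.Recog.FiThree
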