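import Cfsg.Agent.Lib.Recog.FiThree.Data
import Cfsg.Agent.Lib.Recog.FiThree.CheckRels

set_option autoImplicit false
set_option maxRecDepth 20000

/-! Checks (owner: helper21). -/

namespace CfsgLib.Recog.FiThree
open CfsgLib.Recog.BitPerm
open CfsgLib.ThreeTrans.CosetIndex
open Cfsg

/-- The points moved by a word. -/
noncomputable def moved (w : List ℕ) : ℕ :=
  Nat.rec 0 (fun r D => Nat.lor D (Nat.xor (runWord net w (plane r 15)) (plane r 15))) 15

/-- The points moved by some word of the list. -/
noncomputable def movedAny (L : List (List ℕ)) : ℕ :=
  List.rec 0 (fun w _ D => Nat.lor D (moved w)) L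

theorem l_fixed : Nat.beq (Nat.lor orb2 (movedAny lWords)) (Nat.lor (movedAny lWords) (Nat.lor (Nat.shiftLeft 1 pJ) (Nat.shiftLeft 1 pZ))) = true := by decide +kernel

theorem high_fixed : Nat.beq (Nat.shiftRight (movedAny allWords) 31671) 0 = true := by decide +kernel

theorem not_moved {w : List ℕ} {c : ℕ} (h : (moved w).testBit c = false) :
    ∀ r < 15, (runWord net w (plane r 15)).testBit c = (plane r 15).testBit c := by
  have key : ∀ k, (Nat.rec 0 (fun r D => Nat.lor D (Nat.xor (runWord net w (plane r 15)) (plane r 15))) k : ℕ).testBit c = false →
      ∀ r < k, (runWord net w (plane r 15)).testBit c = (plane r 15).testBit c := by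
    intro k
    induction k with
    | zero => intro _ r hr; omega
    | succ k ih =>
      intro hk r hr
      change ((Nat.rec 0 _ k : ℕ) ||| (runWord net w (plane k 15) ^^^ plane k 15)).testBit c = false at hk
      rw [Nat.testBit_or, Bool.or_eq_false_iff, Nat.testBit_xor] at hk
      rcases Nat.lt_succ_iff_lt_or_eq.1 hr with hlt | rfl
      · exact ih hk.1 r hlt
      · simpa using hk.2
  exact key 15 h

theorem not_moved_any {L : List (List ℕ)} {c : ℕ} (h : (movedAny L).testBit c = false) :
    ∀ w ∈ L, ∀ r < 15, (wordPerm net w c).testBit r = c.testBit r := by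
  induction L with
  | nil => simp
  | cons w L ih =>
    change (movedAny L ||| moved w).testBit c = false at h
    rw [Nat.testBit_or, Bool.or_eq_false_iff] at h
    intro v hv r hr
    rcases List.mem_cons.1 hv with rfl | hv
    · have hV : Valid 15 net := Valid.of_check nets_ok fun x hx => by
        show ([net0, net1, net2, net3, net4, net5, net6, net7, net8, net9] : List (List Stage)).getD x [] = []
        exact List.getD_eq_default _ _ (by simpa using hx)
      have := not_moved h.2 r hr
      simp only [testBit_runWord hV, testBit_plane, hr, decide_true, Bool.true_and, Bool.and_true] at this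
      by_cases hc : c < 2 ^ 15
      · have hj : wordPerm net v c < 2 ^ 15 := by
          by_contra hge
          have e := wordPerm_fix hV v (Nat.not_lt.1 hge)
          rw [(wordPerm net v).injective e] at hge
          exact hge hc
        rw [decide_eq_true hc, decide_eq_true hj] at this
        simpa using this
      · rw [wordPerm_fix hV v (Nat.not_lt.1 hc)]
    · exact ih h.1 v hv r hr

end CfsgLib.Recog.FiThree
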