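import Mathlib

set_option autoImplicit false

/-!
Maximality of a point stabiliser of rank three, and quotients in which conjugate involutory generators collapse
(owner: helper21).
-/

namespace CfsgLib.Recog.FiThree

variable {G : Type*} [Group G]

/-- The double coset condition: `g` lies in `K x K`. -/
def InDouble (K : Subgroup G) (x g : G) : Prop := ∃ k ∈ K, (k * x)⁻¹ * g ∈ K

theorem mem_of_inDouble {K C : Subgroup G} (hKC : K ≤ C) {x g : G} (h : InDouble K x g) (hg : g ∈ C) : x ∈ C := by
  obtain ⟨k, hk, h'⟩ := h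
  have : x = k⁻¹ * g * ((k * x)⁻¹ * g)⁻¹ := by group
  rw [this]
  exact mul_mem (mul_mem (inv_mem (hKC hk)) hg) (inv_mem (hKC h'))

theorem inDouble_mem {K C : Subgroup G} (hKC : K ≤ C) {x g : G} (h : InDouble K x g) (hx : x ∈ C) : g ∈ C := by
  obtain ⟨k, hk, h'⟩ := h
  have : g = (k * x) * ((k * x)⁻¹ * g) := by group
  rw [this]
  exact mul_mem (mul_mem (hKC hk) hx) (hKC h')

/-- Three double cosets linked both ways: the subgroup is maximal. -/
theorem rank_three_maximal {K : Subgroup G} {x y : G} (dec : ∀ g, g ∈ K ∨ InDouble K x g ∨ InDouble K y g)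
    (hxy : ∃ k ∈ K, InDouble K y (x * k * x)) (hyx : ∃ k ∈ K, InDouble K x (y * k * y))
    {C : Subgroup G} (hKC : K ≤ C) : C = K ∨ C = ⊤ := by
  by_cases h : C ≤ K
  · exact Or.inl (le_antisymm h hKC)
  obtain ⟨g, hg, hgK⟩ := SetLike.not_le_iff_exists.1 h
  obtain ⟨hx, hy⟩ : x ∈ C ∧ y ∈ C := by
    rcases (dec g).resolve_left hgK with hd | hd
    · have hx := mem_of_inDouble hKC hd hg
      obtain ⟨k, hk, hd'⟩ := hxy
      exact ⟨hx, mem_of_inDouble hKC hd' (mul_mem (mul_mem hx (hKC hk)) hx)⟩
    · have hy := mem_of_inDouble hKC hd hg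
      obtain ⟨k, hk, hd'⟩ := hyx
      exact ⟨mem_of_inDouble hKC hd' (mul_mem (mul_mem hy (hKC hk)) hy), hy⟩
  refine Or.inr (eq_top_iff.2 fun u _ => ?_)
  rcases dec u with hu | hu | hu
  · exact hKC hu
  · exact inDouble_mem hKC hu hx
  · exact inDouble_mem hKC hu hy

theorem braid_conj {x y : G} (hx : x * x = 1) (hy : y * y = 1) (h : x * y * (x * y) * (x * y) = 1) :
    y = (x * y) * x * (x * y)⁻¹ := by
  have hx' : x⁻¹ = x := inv_eq_of_mul_eq_one_right hx
  have hy' : y⁻¹ = y := inv_eq_of_mul_eq_one_right hy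
  have h2 : x * y * x * y * x = y := by
    calc x * y * x * y * x = (x * y * (x * y) * (x * y)) * y⁻¹ := by group
      _ = y := by rw [h, one_mul, hy']
  calc y = x * y * x * y * x := h2.symm
    _ = (x * y) * x * (x * y)⁻¹ := by rw [mul_inv_rev, hx', hy']; group

/-- A word of odd length in generators with one common involutory image forces a trivial image. -/
theorem hom_word_odd {M : Type*} [Group M] {A : ℕ → G} (f : G →* M) {u : M} (hu : u * u = 1) :
    ∀ (w : List ℕ), (∀ x ∈ w, f (A x) = u) → w.length % 2 = 1 → (w.map A).prod = 1 → u = 1 := by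
  intro w hw hodd h1
  have key : ∀ (w : List ℕ), (∀ x ∈ w, f (A x) = u) → f (w.map A).prod = if w.length % 2 = 1 then u else 1 := by
    intro w
    induction w with
    | nil => simp
    | cons x w ih =>
      intro hw
      rw [List.map_cons, List.prod_cons, map_mul, hw x List.mem_cons_self,
        ih fun y hy => hw y (List.mem_cons_of_mem _ hy), List.length_cons]
      rcases Nat.mod_two_eq_zero_or_one w.length with e | e
      · rw [if_neg (by omega), if_pos (by omega), mul_one]
      · rw [if_pos e, if_neg (by omega), hu]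
  have := key w hw
  rwa [h1, map_one, if_pos hodd, eq_comm] at this

end CfsgLib.Recog.FiThree
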