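import Cfsg.Agent.Lib.Recog.FiThree.Tower
import Cfsg.Agent.Lib.Recog.FiThree.RankThree
import Cfsg.Agent.Lib.Recog.FiThree.CheckRels
import Cfsg.Agent.Lib.Recog.FiThree.CheckOrbits
import Cfsg.Agent.Lib.Recog.FiThree.CheckFixed
import Cfsg.Agent.Lib.Recog.FiThree.CheckChain

set_option autoImplicit false
set_option maxRecDepth 20000
set_option linter.style.haveILetI false

/-!
The faithful action of Fi23 on 31671 points (owner: helper21).
-/

namespace CfsgLib.Recog.FiThree

open Cfsg CfsgLib.Recog.BitPerm CfsgLib.Recog.SporBound CfsgLib.ThreeTrans.CosetIndex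

/-- The letters as elements. -/
abbrev gg : ℕ → Spor.Fi23 := gen Spor.Fi23.edges Spor.Fi23.extra gens

/-- A word as an element. -/
abbrev word (w : List ℕ) : Spor.Fi23 := (w.map gg).prod

/-- The subgroup of the first nine letters. -/
abbrev hSub : Subgroup Spor.Fi23 := letterSub Spor.Fi23.edges Spor.Fi23.extra gens hLetters

theorem acts : Acts Spor.Fi23.edges Spor.Fi23.extra gens 15 net where
  valid := Valid.of_check nets_ok fun x hx => by
    show ([net0, net1, net2, net3, net4, net5, net6, net7, net8, net9] : List (List Stage)).getD x [] = []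
    exact List.getD_eq_default _ _ (by simpa using hx)
  nodup := by decide
  big x hx := by
    show ([net0, net1, net2, net3, net4, net5, net6, net7, net8, net9] : List (List Stage)).getD x [] = []
    exact List.getD_eq_default _ _ (by simpa [gens] using hx)
  sq x hx := by
    have hm : [x, x] ∈ relParts.flatten :=
      List.contains_iff_mem.1 ((show ∀ y < 10, relParts.flatten.contains [y, y] = true by decide +kernel) x hx)
    obtain ⟨p, hp, hw⟩ := List.mem_flatten.1 hm
    exact List.all_eq_true.1 (rels_ok p hp) _ hw
  rels w hw := by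
    obtain ⟨p, hp, hw'⟩ := List.mem_flatten.1 (List.contains_iff_mem.1 (List.all_eq_true.1 rel_cover w hw))
    exact List.all_eq_true.1 (rels_ok p hp) _ hw'

/-- The action. -/
noncomputable abbrev act : Spor.Fi23 →* Equiv.Perm ℕ := action acts

theorem act_word (w : List ℕ) : act (word w) = wordPerm net w := action_word acts w

theorem act_maps {w : List ℕ} {q p : ℕ} (h : mapsOK net w q p = true) : act (word w) q = p := by
  rw [act_word]; exact wordPerm_maps acts.valid h

theorem gg_sq (x : ℕ) : gg x * gg x = 1 := gen_inv nodes x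

theorem word_singleton (x : ℕ) : word [x] = gg x := List.prod_singleton

theorem word_append (u v : List ℕ) : word (u ++ v) = word u * word v := by
  simp [word]

theorem word_reverse (w : List ℕ) : word w.reverse = (word w)⁻¹ :=
  prod_reverse_eq_inv gg gg_sq w

theorem finite_fi23' : Finite Spor.Fi23 := finite_fi23

attribute [local instance] finite_fi23'

theorem total_le : 4089470473293004800 * Nat.card act.ker ≤ Nat.card Spor.Fi23 := by
  have h := total_mul_ker_le_card acts.valid act (fun _ _ w _ => wordPerm_mem_range acts w) chain_ok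
  rwa [total_eq] at h

theorem act_injective : Function.Injective act := by
  have h := total_le.trans card_fi23_le
  have hpos : 0 < Nat.card act.ker := Nat.card_pos
  exact (MonoidHom.ker_eq_bot_iff _).1 (Subgroup.eq_bot_of_card_le _ (by omega))

theorem card_fi23 : Nat.card Spor.Fi23 = 4089470473293004800 := by
  refine le_antisymm card_fi23_le ?_
  have h := total_le
  have hpos : 0 < Nat.card act.ker := Nat.card_pos
  omega

theorem word_eq_one {w : List ℕ} (h : idOK 15 net w = true) : word w = 1 :=
  act_injective (by rw [act_word, wordPerm_eq_one acts.valid h, map_one])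

/-- The point of an element. -/
noncomputable abbrev pt (g : Spor.Fi23) : ℕ := act g 0

/-- The elements fixing a point. -/
noncomputable def stabPt (p : ℕ) : Subgroup Spor.Fi23 := fixSub act [p]

theorem mem_stabPt {p : ℕ} {g : Spor.Fi23} : g ∈ stabPt p ↔ act g p = p :=
  ⟨fun h => h p List.mem_cons_self, fun h c hc => by rw [List.mem_singleton.1 hc, h]⟩

theorem letters_fix {L : List ℕ} {p : ℕ} (h : ∀ x ∈ L, mapsOK net [x] p p = true) :
    letterSub Spor.Fi23.edges Spor.Fi23.extra gens L ≤ stabPt p := by
  rw [letterSub, Subgroup.closure_le]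
  rintro _ ⟨x, hx, rfl⟩
  show gg x ∈ stabPt p
  rw [mem_stabPt, ← word_singleton]
  exact act_maps (h x hx)

theorem hSub_fix : hSub ≤ stabPt 0 := letters_fix fun x hx => List.all_eq_true.1 fix_zero x hx

theorem pt_h {g : Spor.Fi23} (hg : g ∈ hSub) : act g 0 = 0 := mem_stabPt.1 (hSub_fix hg)

theorem pt_mul_h (g : Spor.Fi23) {h : Spor.Fi23} (hh : h ∈ hSub) : pt (g * h) = pt g := by
  rw [pt, map_mul, Equiv.Perm.mul_apply, pt_h hh]

theorem word_mem_h {w : List ℕ} (h : w.all (hLetters.contains ·) = true) : word w ∈ hSub :=
  mem_letterSub fun x hx => List.contains_iff_mem.1 (List.all_eq_true.1 h x hx)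

theorem high_fix (g : Spor.Fi23) {i : ℕ} (hi : 31671 ≤ i) : act g i = i := by
  have hgen : ∀ x, act (gg x) i = i := by
    intro x
    rw [action_gen]
    by_cases hx : x < 10
    · rcases Nat.lt_or_ge i (2 ^ 15) with hlt | hge
      swap
      · exact netPerm_fix (acts.valid.ok x) hge
      have hj : wordPerm net [x] i < 2 ^ 15 := by
        by_contra hge
        have := wordPerm_fix acts.valid [x] (Nat.not_lt.1 hge)
        rw [(wordPerm net [x]).injective this] at hge
        exact hge hlt
      have hp : wordPerm net [x] = netPerm (net x) := List.prod_singleton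
      refine Nat.eq_of_testBit_eq fun r => ?_
      rcases Nat.lt_or_ge r 15 with hr | hr
      · have h0 := congrArg (fun n => n.testBit (i - 31671)) (Nat.eq_of_beq_eq_true high_fixed)
        change (movedAny allWords >>> 31671).testBit (i - 31671) = (0 : ℕ).testBit (i - 31671) at h0
        rw [Nat.testBit_shiftRight, show 31671 + (i - 31671) = i by omega, Nat.zero_testBit] at h0
        have h1 := not_moved_any h0 [x] (List.mem_map.2 ⟨x, List.mem_range.2 hx, rfl⟩) r hr
        rw [hp] at h1 hj
        exact h1
      · rw [Nat.testBit_lt_two_pow (lt_of_lt_of_le hlt (Nat.pow_le_pow_right (by omega) hr)),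
          Nat.testBit_lt_two_pow (lt_of_lt_of_le (hp ▸ hj) (Nat.pow_le_pow_right (by omega) hr))]
    · rw [acts.big x (by show 10 ≤ x; omega)]; rfl
  have hg : g ∈ Subgroup.closure (Set.range gg) := by rw [SporBound.closure_gen nodes]; exact Subgroup.mem_top g
  induction hg using Subgroup.closure_induction with
  | mem g hg => obtain ⟨x, rfl⟩ := hg; exact hgen x
  | one => rw [map_one]; rfl
  | mul g g' _ _ i1 i2 => rw [map_mul, Equiv.Perm.mul_apply, i2, i1]
  | inv g _ i1 => rw [map_inv, Equiv.Perm.inv_eq_iff_eq]; exact i1.symm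

end CfsgLib.Recog.FiThree
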